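import Mathlib

/-!
# Finite length vs. support (helper85)
-/

set_option autoImplicit false
set_option linter.style.haveILetI false
universe u v

namespace Groth.Agent.Lib.Helper85.HS

open Module

/-- A finitely generated module killed by an ideal `q` with `A/q` Artinian has finite length. -/
theorem isFiniteLength_of_finite_of_torsion {A : Type*} [CommRing A] (q : Ideal A)
    [IsArtinianRing (A ⧸ q)] (P : Type*) [AddCommGroup P] [Module A P] [Module.Finite A P]
    (h : ∀ a ∈ q, ∀ p : P, a • p = 0) : IsFiniteLength A P := by
  have hP : Module.IsTorsionBySet A P (q : Set A) := fun p a => h a.1 a.2 p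
  letI := hP.module
  haveI : IsScalarTower A (A ⧸ q) P := hP.isScalarTower
  haveI : Module.Finite (A ⧸ q) P := Module.Finite.of_restrictScalars_finite A (A ⧸ q) P
  have h1 : IsFiniteLength (A ⧸ q) P := by
    rw [isFiniteLength_iff_isNoetherian_isArtinian]
    exact ⟨inferInstance, inferInstance⟩
  rw [← Module.length_ne_top_iff] at h1 ⊢
  rwa [Module.length_eq_of_surjective (S := A) (R := A ⧸ q) Ideal.Quotient.mk_surjective]

/-- A finitely generated module over a Noetherian ring with zero-dimensional support has finite
length. -/
theorem isFiniteLength_of_supportDim_le_zero {A : Type*} [CommRing A] [IsNoetherianRing A]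
    (P : Type*) [AddCommGroup P] [Module A P] [Module.Finite A P]
    (h : supportDim A P ≤ 0) : IsFiniteLength A P := by
  rw [supportDim_eq_ringKrullDim_quotient_annihilator] at h
  haveI : Ring.KrullDimLE 0 (A ⧸ annihilator A P) := by
    rw [Ring.KrullDimLE, Order.krullDimLE_iff]
    exact h
  haveI : IsArtinianRing (A ⧸ annihilator A P) := isArtinianRing_iff_krullDimLE_zero.mpr inferInstance
  exact isFiniteLength_of_finite_of_torsion (annihilator A P) P
    fun a ha p => Module.mem_annihilator.mp ha p

/-- the support of a finite length module consists of maximal ideals -/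
theorem isMaximal_of_mem_support_of_isFiniteLength {A : Type u} [CommRing A]
    {P : Type v} [AddCommGroup P] [Module A P] (h : IsFiniteLength A P)
    (p : PrimeSpectrum A) (hp : p ∈ support A P) : p.asIdeal.IsMaximal := by
  induction h with
  | of_subsingleton =>
    rw [Module.support_eq_empty] at hp
    exact absurd hp (Set.notMem_empty _)
  | @of_simple_quotient M _ _ N hs _ ih =>
    have hex : Function.Exact N.subtype N.mkQ := LinearMap.exact_subtype_mkQ N
    rw [Module.support_of_exact hex N.injective_subtype N.mkQ_surjective] at hp
    rcases hp with hp | hp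
    · exact ih hp
    · obtain ⟨I, hI, ⟨e⟩⟩ := isSimpleModule_iff_quot_maximal.mp hs
      rw [e.support_eq, Module.support_eq_zeroLocus, Ideal.annihilator_quotient] at hp
      have hle : I ≤ p.asIdeal := hp
      rw [← hI.eq_of_le p.2.ne_top hle]
      exact hI

theorem supportDim_le_zero_of_isFiniteLength {A : Type u} [CommRing A]
    {P : Type v} [AddCommGroup P] [Module A P] (h : IsFiniteLength A P) :
    supportDim A P ≤ 0 := by
  rw [supportDim, Order.krullDim_nonpos_iff_forall_isMax]
  rintro ⟨p, hp⟩ ⟨p', hp'⟩ hle
  have hmax := isMaximal_of_mem_support_of_isFiniteLength h p hp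
  have hle' : p.asIdeal ≤ p'.asIdeal := hle
  have : p.asIdeal = p'.asIdeal := hmax.eq_of_le p'.2.ne_top hle'
  exact le_of_eq (Subtype.ext (PrimeSpectrum.ext this.symm))

end Groth.Agent.Lib.Helper85.HS
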