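import Groth.Agent.Lib.Helper85.HS.FiniteLength

/-!
# `dim M = δ(M)` for finitely generated modules over Noetherian semilocal rings (helper85)
-/

set_option autoImplicit false
set_option linter.style.haveILetI false
universe u

namespace Groth.Agent.Lib.Helper85.HS

open Module Pointwise

section quot

variable {A : Type u} [CommRing A] {M : Type u} [AddCommGroup M] [Module A M]

/-- `(M/x₀M)/(x')(M/x₀M) ≃ M/(x₀,x')M` -/
noncomputable def quotConsEquiv {n : ℕ} (x₀ : A) (x' : Fin n → A) :
    (QuotSMulTop x₀ M ⧸ (Ideal.span (Set.range x') • (⊤ : Submodule A (QuotSMulTop x₀ M)))) ≃ₗ[A]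
      M ⧸ (Ideal.span (Set.range (Fin.cons x₀ x' : Fin (n + 1) → A)) • (⊤ : Submodule A M)) := by
  set S : Submodule A M := x₀ • (⊤ : Submodule A M) with hS
  set T : Submodule A M :=
    Ideal.span (Set.range (Fin.cons x₀ x' : Fin (n + 1) → A)) • (⊤ : Submodule A M) with hT
  have hspan : Ideal.span (Set.range (Fin.cons x₀ x' : Fin (n + 1) → A)) =
      Ideal.span {x₀} ⊔ Ideal.span (Set.range x') := by
    rw [Fin.range_cons, Ideal.span_insert]
  have hST : S ≤ T := by
    rw [hS, hT, hspan, Submodule.sup_smul, Submodule.ideal_span_singleton_smul]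
    exact le_sup_left
  have hzero : x₀ • (⊤ : Submodule A (QuotSMulTop x₀ M)) = ⊥ := by
    rw [eq_bot_iff]
    rintro _ ⟨m', -, rfl⟩
    obtain ⟨m, rfl⟩ := (x₀ • (⊤ : Submodule A M)).mkQ_surjective m'
    rw [Submodule.mem_bot]
    show x₀ • (x₀ • (⊤ : Submodule A M)).mkQ m = 0
    rw [← map_smul, Submodule.mkQ_apply, Submodule.Quotient.mk_eq_zero]
    exact Submodule.smul_mem_pointwise_smul m x₀ ⊤ Submodule.mem_top
  have hmap : Submodule.map S.mkQ T =
      Ideal.span (Set.range x') • (⊤ : Submodule A (QuotSMulTop x₀ M)) := by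
    rw [hT, Submodule.map_smul'', Submodule.map_top, Submodule.range_mkQ, hspan,
      Submodule.sup_smul, Submodule.ideal_span_singleton_smul]
    have : x₀ • (⊤ : Submodule A (M ⧸ S)) = ⊥ := hzero
    rw [this, bot_sup_eq]
  exact (Submodule.quotEquivOfEq _ _ hmap.symm).trans
    (Submodule.quotientQuotientEquivQuotient S T hST)

end quot

section dim

variable {A : Type u} [CommRing A] [IsNoetherianRing A]

omit [IsNoetherianRing A] in
theorem jacobson_le_jacobson_annihilator (M : Type u) [AddCommGroup M] [Module A M] :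
    Ring.jacobson A ≤ (annihilator A M).jacobson := by
  rw [← Ideal.jacobson_bot]
  exact Ideal.jacobson_mono bot_le

/-- `dim M ≤ dim M/(x)M + n` for `x₁,…,xₙ` in the Jacobson radical -/
theorem supportDim_le_supportDim_quotient_add : ∀ (n : ℕ) (M : Type u) [AddCommGroup M]
    [Module A M] [Module.Finite A M] (x : Fin n → A) (_ : ∀ i, x i ∈ Ring.jacobson A),
    supportDim A M ≤
      supportDim A (M ⧸ (Ideal.span (Set.range x) • (⊤ : Submodule A M))) + n := by
  intro n
  induction n with
  | zero =>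
    intro M _ _ _ x _
    have h0 : Ideal.span (Set.range x) • (⊤ : Submodule A M) = ⊥ := by
      have : Set.range x = ∅ := Set.range_eq_empty x
      rw [this, Ideal.span_empty, Submodule.bot_smul]
    rw [supportDim_eq_of_equiv (Submodule.quotEquivOfEqBot _ h0)]
    simp
  | succ n ih =>
    intro M _ _ _ x hx
    have hx0 : x 0 ∈ (annihilator A M).jacobson := jacobson_le_jacobson_annihilator M (hx 0)
    have h1 := supportDim_le_supportDim_quotSMulTop_succ_of_mem_jacobson hx0
    have h2 := ih (QuotSMulTop (x 0) M) (Fin.tail x) (fun i => hx i.succ)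
    have e := quotConsEquiv (M := M) (x 0) (Fin.tail x)
    rw [Fin.cons_self_tail] at e
    rw [supportDim_eq_of_equiv e] at h2
    calc supportDim A M ≤ supportDim A (QuotSMulTop (x 0) M) + 1 := h1
      _ ≤ (supportDim A (M ⧸ (Ideal.span (Set.range x) • (⊤ : Submodule A M))) + n) + 1 := by
        gcongr
      _ = _ := by rw [add_assoc]; norm_cast

omit [IsNoetherianRing A] in
/-- dimension drops when avoiding the non-maximal minimal primes -/
theorem supportDim_quotSMulTop_le (M : Type u) [AddCommGroup M] [Module A M] [Module.Finite A M]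
    (x₀ : A) (hx₀ : ∀ p ∈ (annihilator A M).minimalPrimes, ¬ p.IsMaximal → x₀ ∉ p) (k : ℕ)
    (hk : supportDim A M ≤ (k + 1 : ℕ)) : supportDim A (QuotSMulTop x₀ M) ≤ k := by
  rw [supportDim, Order.krullDim, iSup_le_iff]
  intro p
  by_cases hp0 : p.length = 0
  · rw [hp0]; exact_mod_cast Nat.zero_le k
  have hp := p.head.2
  simp only [support_quotSMulTop, Set.mem_inter_iff, PrimeSpectrum.mem_zeroLocus,
    Set.singleton_subset_iff] at hp
  have le : support A (QuotSMulTop x₀ M) ⊆ support A M := by simp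
  let q : LTSeries (support A M) :=
    p.map (fun a : support A (QuotSMulTop x₀ M) => (⟨a.1, Set.mem_of_mem_of_subset a.2 le⟩ : support A M))
      (fun _ _ h ↦ h)
  obtain ⟨r, hrm, hr⟩ := Ideal.exists_minimalPrimes_le (mem_support_iff_of_finite.mp q.head.2)
  have hrprime : r.IsPrime := hrm.1.1
  -- `r` is not maximal
  have hrmax : ¬ r.IsMaximal := by
    intro hmax
    let i₀ : Fin p.length := ⟨0, Nat.pos_of_ne_zero hp0⟩
    have h2 : p (Fin.castSucc i₀) < p i₀.succ := p.step i₀
    have h3 : (p (Fin.castSucc i₀)).1.asIdeal < (p i₀.succ).1.asIdeal := h2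
    have h4 : r ≤ (p (Fin.castSucc i₀)).1.asIdeal := hr
    have h5 : r = (p (Fin.castSucc i₀)).1.asIdeal :=
      hmax.eq_of_le (p (Fin.castSucc i₀)).1.2.ne_top h4
    have h6 : r < (p i₀.succ).1.asIdeal := h5 ▸ h3
    exact h6.ne (hmax.eq_of_le (p i₀.succ).1.2.ne_top h6.le)
  let r' : support A M := ⟨⟨r, hrprime⟩, mem_support_iff_of_finite.mpr hrm.1.2⟩
  have hx0r : x₀ ∉ r := hx₀ r hrm hrmax
  have hr' : r' < q.head := lt_of_le_of_ne hr (fun h ↦ hx0r (by
    have : r = q.head.1.asIdeal := congrArg (fun t : support A M => t.1.asIdeal) h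
    rw [this]; exact hp.2))
  have hlen : ((q.cons r' hr').length : WithBot ℕ∞) ≤ supportDim A M :=
    Order.LTSeries.length_le_krullDim _
  have hlen2 : (q.cons r' hr').length = p.length + 1 := by
    have hq : q.length = p.length := rfl
    rw [RelSeries.cons_length, hq]
  rw [hlen2] at hlen
  have := hlen.trans hk
  have h7 : p.length + 1 ≤ k + 1 := by exact_mod_cast this
  exact_mod_cast Nat.le_of_succ_le_succ h7

end dim

section semilocal

variable {A : Type u} [CommRing A] [IsNoetherianRing A] [Finite (MaximalSpectrum A)]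

omit [IsNoetherianRing A] in
theorem isMaximal_of_jacobson_le (p : Ideal A) [p.IsPrime] (h : Ring.jacobson A ≤ p) :
    p.IsMaximal := by
  classical
  haveI := Fintype.ofFinite (MaximalSpectrum A)
  have h1 : Ring.jacobson A = Finset.univ.inf (fun m : MaximalSpectrum A => m.asIdeal) := by
    rw [Ring.jacobson_eq_sInf_isMaximal, Finset.inf_univ_eq_iInf]
    apply le_antisymm
    · exact le_iInf fun m => sInf_le m.isMaximal
    · exact le_sInf fun I hI => iInf_le_of_le ⟨I, hI⟩ le_rfl
  rw [h1, Ideal.IsPrime.inf_le' inferInstance] at h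
  obtain ⟨m, -, hm⟩ := h
  rw [← m.isMaximal.eq_of_le (Ideal.IsPrime.ne_top inferInstance) hm]
  exact m.isMaximal

theorem exists_mem_jacobson_notMem_minimalPrimes (I : Ideal A) :
    ∃ x ∈ Ring.jacobson A, ∀ p ∈ I.minimalPrimes, ¬ p.IsMaximal → x ∉ p := by
  classical
  set T : Set (Ideal A) := {p | p ∈ I.minimalPrimes ∧ ¬ p.IsMaximal} with hT
  have hfin : T.Finite :=
    (Ideal.finite_minimalPrimes_of_isNoetherianRing A I).subset fun p hp => hp.1
  have hnot : ¬ ((Ring.jacobson A : Set A) ⊆ ⋃ p ∈ T, (p : Set A)) := by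
    intro hsub
    obtain ⟨p, hp, hle⟩ := (Ideal.subset_union_prime_finite hfin (f := id) ⊥ ⊥
      (fun p hp _ _ => hp.1.1.1)).mp hsub
    haveI : p.IsPrime := hp.1.1.1
    exact hp.2 (isMaximal_of_jacobson_le p hle)
  rw [Set.not_subset] at hnot
  obtain ⟨x, hx, hxT⟩ := hnot
  refine ⟨x, hx, fun p hp hmax hxp => hxT ?_⟩
  exact Set.mem_biUnion (show p ∈ T from ⟨hp, hmax⟩) hxp

/-- existence of a "system of parameters" in the Jacobson radical -/
theorem exists_fin_isFiniteLength_quotient : ∀ (k : ℕ) (M : Type u) [AddCommGroup M]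
    [Module A M] [Module.Finite A M], supportDim A M ≤ k →
    ∃ x : Fin k → A, (∀ i, x i ∈ Ring.jacobson A) ∧
      IsFiniteLength A (M ⧸ (Ideal.span (Set.range x) • (⊤ : Submodule A M))) := by
  intro k
  induction k with
  | zero =>
    intro M _ _ _ h
    refine ⟨Fin.elim0, fun i => i.elim0, ?_⟩
    have h0 : Ideal.span (Set.range (Fin.elim0 : Fin 0 → A)) • (⊤ : Submodule A M) = ⊥ := by
      have : Set.range (Fin.elim0 : Fin 0 → A) = ∅ := Set.range_eq_empty _
      rw [this, Ideal.span_empty, Submodule.bot_smul]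
    exact (Submodule.quotEquivOfEqBot _ h0).symm.isFiniteLength
      (isFiniteLength_of_supportDim_le_zero M (by exact_mod_cast h))
  | succ k ih =>
    intro M _ _ _ h
    obtain ⟨x₀, hx₀, hx₀p⟩ := exists_mem_jacobson_notMem_minimalPrimes (annihilator A M)
    have hdim' := supportDim_quotSMulTop_le M x₀ hx₀p k h
    obtain ⟨x', hx', hfl⟩ := ih (QuotSMulTop x₀ M) hdim'
    refine ⟨Fin.cons x₀ x', fun i => ?_, (quotConsEquiv x₀ x').isFiniteLength hfl⟩
    refine Fin.cases ?_ (fun i => ?_) i
    · simpa using hx₀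
    · simpa using hx' i

end semilocal

end Groth.Agent.Lib.Helper85.HS
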