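import Mathlib

/-!
# Elementary facts on `ℕ`-graded modules given by a family of submodules (helper85)

`ℳ : ℕ → Submodule A M` with a `DirectSum.Decomposition`, and an `A`-linear endomorphism `φ` of
degree one.
-/

set_option autoImplicit false
universe u

namespace Groth.Agent.Lib.Helper85.HS

open DirectSum

section

variable {A : Type*} [CommRing A] {M : Type*} [AddCommGroup M] [Module A M]
  (ℳ : ℕ → Submodule A M) [DirectSum.Decomposition ℳ]
  (φ : M →ₗ[A] M) (hφ : ∀ i, ∀ m ∈ ℳ i, φ m ∈ ℳ (i + 1))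

include hφ

theorem decompose_apply_succ (m : M) (i : ℕ) :
    ((decompose ℳ (φ m)) (i + 1) : M) = φ ((decompose ℳ m) i : M) := by
  induction m using DirectSum.Decomposition.inductionOn ℳ with
  | zero => simp
  | @homogeneous j m =>
    by_cases hij : j = i
    · subst hij
      rw [decompose_of_mem_same ℳ (hφ j m m.2), decompose_of_mem_same ℳ m.2]
    · rw [decompose_of_mem_ne ℳ (hφ j m m.2) (fun h => hij (Nat.succ_injective h)),
        decompose_of_mem_ne ℳ m.2 hij, map_zero]
  | add m m' h h' =>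
    rw [map_add, decompose_add, decompose_add, DirectSum.add_apply, DirectSum.add_apply,
      Submodule.coe_add, Submodule.coe_add, map_add, h, h']

theorem decompose_apply_zero (m : M) : ((decompose ℳ (φ m)) 0 : M) = 0 := by
  induction m using DirectSum.Decomposition.inductionOn ℳ with
  | zero => simp
  | @homogeneous j m =>
    rw [decompose_of_mem_ne ℳ (hφ j m m.2) (Nat.succ_ne_zero j)]
  | add m m' h h' =>
    rw [map_add, decompose_add, DirectSum.add_apply, Submodule.coe_add, h, h', add_zero]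

/-- the kernel of `φ` is graded -/
theorem decompose_mem_ker (m : M) (hm : φ m = 0) (i : ℕ) : φ ((decompose ℳ m) i : M) = 0 := by
  rw [← decompose_apply_succ ℳ φ hφ, hm, decompose_zero]
  rfl

/-- the range of `φ` is graded -/
theorem mem_map_of_mem_range (i : ℕ) (y : M) (hy : y ∈ ℳ (i + 1)) (hy' : y ∈ LinearMap.range φ) :
    y ∈ (ℳ i).map φ := by
  obtain ⟨m, rfl⟩ := hy'
  refine ⟨((decompose ℳ m) i : M), ((decompose ℳ m) i).2, ?_⟩
  rw [← decompose_apply_succ ℳ φ hφ, decompose_of_mem_same ℳ hy]

theorem eq_zero_of_mem_zero_of_mem_range (y : M) (hy : y ∈ ℳ 0) (hy' : y ∈ LinearMap.range φ) :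
    y = 0 := by
  obtain ⟨m, rfl⟩ := hy'
  rw [← decompose_of_mem_same ℳ hy, decompose_apply_zero ℳ φ hφ]

theorem decompose_mem_range (y : M) (hy : y ∈ LinearMap.range φ) (i : ℕ) :
    ((decompose ℳ y) i : M) ∈ LinearMap.range φ := by
  obtain ⟨m, rfl⟩ := hy
  cases i with
  | zero => rw [decompose_apply_zero ℳ φ hφ]; exact Submodule.zero_mem _
  | succ i => rw [decompose_apply_succ ℳ φ hφ]; exact ⟨_, rfl⟩

end

end Groth.Agent.Lib.Helper85.HS
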