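import Groth.Agent.Lib.Helper85.HS.Binomial
import Groth.Agent.Lib.Helper85.HS.FiniteLength
import Groth.Agent.Lib.Helper85.HS.Graded

/-!
# Hilbert–Serre: the Hilbert function of a finitely generated graded module (helper85)

`A` a commutative ring, `q` an ideal with `A/q` Artinian, `S` a Noetherian commutative `A`-algebra
generated by `x 0, …, x (D-1)`, `M` a finite `S`-module killed by `q`, graded by `A`-submodules
`ℳ i` with `x j • ℳ i ⊆ ℳ (i+1)`.  Then every `ℳ i` has finite length over `A` and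
`i ↦ length (ℳ i)` is eventually an integer combination of `C(i+k,k)`, `k < D`.
-/

set_option autoImplicit false
set_option linter.style.haveILetI false
universe u

namespace Groth.Agent.Lib.Helper85.HS

open Module DirectSum

section defs

variable {A : Type u} [CommRing A] (q : Ideal A) {S : Type u} [CommRing S] [Algebra A S]
  {D : ℕ} (x : Fin D → S)

/-- graded module data -/
structure GrData (M : Type u) [AddCommGroup M] [Module S M] [Module A M] [IsScalarTower A S M]
    (ℳ : ℕ → Submodule A M) : Prop where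
  indep : iSupIndep ℳ
  sup : iSup ℳ = ⊤
  shift : ∀ (j : Fin D) (i : ℕ) (m : M), m ∈ ℳ i → x j • m ∈ ℳ (i + 1)
  tors : ∀ a ∈ q, ∀ m : M, a • m = 0

/-- the length of the `i`-th graded piece as an integer -/
noncomputable def lenZ {M : Type u} [AddCommGroup M] [Module A M] (ℳ : ℕ → Submodule A M)
    (i : ℕ) : ℤ := ((Module.length A (ℳ i)).toNat : ℤ)

variable {q x}
variable {M : Type u} [AddCommGroup M] [Module S M] [Module A M] [IsScalarTower A S M]
  {ℳ : ℕ → Submodule A M}

theorem GrData.isInternal (h : GrData q x M ℳ) : DirectSum.IsInternal ℳ :=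
  (DirectSum.isInternal_submodule_iff_iSupIndep_and_iSup_eq_top ℳ).mpr ⟨h.indep, h.sup⟩

/-- the graded pieces of the kernel of multiplication by `y` -/
def kerPiece (ℳ : ℕ → Submodule A M) (y : S) (i : ℕ) :
    Submodule A (LinearMap.ker (LinearMap.lsmul S M y)) :=
  (ℳ i).comap ((LinearMap.ker (LinearMap.lsmul S M y)).subtype.restrictScalars A)

/-- the graded pieces of the cokernel of multiplication by `y` -/
def cokerPiece (ℳ : ℕ → Submodule A M) (y : S) (i : ℕ) :
    Submodule A (M ⧸ LinearMap.range (LinearMap.lsmul S M y)) :=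
  (ℳ i).map ((LinearMap.range (LinearMap.lsmul S M y)).mkQ.restrictScalars A)

theorem GrData.ker (h : GrData q x M ℳ) (y : S) (hy : ∀ i, ∀ m ∈ ℳ i, y • m ∈ ℳ (i + 1)) :
    GrData q x (LinearMap.ker (LinearMap.lsmul S M y)) (kerPiece ℳ y) := by
  classical
  letI := h.isInternal.chooseDecomposition
  set φ : M →ₗ[A] M := (LinearMap.lsmul S M y).restrictScalars A with hφdef
  have hφ : ∀ i, ∀ m ∈ ℳ i, φ m ∈ ℳ (i + 1) := hy
  refine ⟨?_, ?_, ?_, ?_⟩
  · rw [iSupIndep_iff_finsetSum_eq_zero_imp_eq_zero]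
    intro s v hv hsum i hi
    have h1 := (iSupIndep_iff_finsetSum_eq_zero_imp_eq_zero ℳ).mp h.indep s
      (fun i => ((v i : LinearMap.ker (LinearMap.lsmul S M y)) : M)) (fun i hi => hv i hi) (by
        have := congrArg (fun k : LinearMap.ker (LinearMap.lsmul S M y) => (k : M)) hsum
        simpa using this) i hi
    exact Subtype.ext h1
  · rw [eq_top_iff]
    rintro ⟨k, hk⟩ -
    have hk0 : φ k = 0 := hk
    have hsum := DirectSum.sum_support_decompose ℳ k
    have hmem : ∀ i, φ ((decompose ℳ k) i : M) = 0 := decompose_mem_ker ℳ φ hφ k hk0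
    have : (⟨k, hk⟩ : LinearMap.ker (LinearMap.lsmul S M y)) =
        ∑ i ∈ (decompose ℳ k).support, ⟨((decompose ℳ k) i : M), hmem i⟩ := by
      apply Subtype.ext
      rw [AddSubmonoidClass.coe_finsetSum]
      exact hsum.symm
    rw [this]
    refine Submodule.sum_mem _ fun i _ => ?_
    exact Submodule.mem_iSup_of_mem i (show ((decompose ℳ k) i : M) ∈ ℳ i from ((decompose ℳ k) i).2)
  · rintro j i ⟨m, hm⟩ hmi
    exact h.shift j i m hmi
  · rintro a ha ⟨m, hm⟩
    exact Subtype.ext (h.tors a ha m)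

theorem GrData.coker (h : GrData q x M ℳ) (y : S) (hy : ∀ i, ∀ m ∈ ℳ i, y • m ∈ ℳ (i + 1)) :
    GrData q x (M ⧸ LinearMap.range (LinearMap.lsmul S M y)) (cokerPiece ℳ y) := by
  classical
  letI := h.isInternal.chooseDecomposition
  set φ : M →ₗ[A] M := (LinearMap.lsmul S M y).restrictScalars A with hφdef
  have hφ : ∀ i, ∀ m ∈ ℳ i, φ m ∈ ℳ (i + 1) := hy
  set R := LinearMap.range (LinearMap.lsmul S M y) with hR
  have hRφ : ∀ m : M, m ∈ R ↔ m ∈ LinearMap.range φ := fun m => Iff.rfl
  refine ⟨?_, ?_, ?_, ?_⟩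
  · rw [iSupIndep_iff_finsetSum_eq_zero_imp_eq_zero]
    intro s v hv hsum i hi
    choose! w hw hwv using hv
    have h1 : ∑ j ∈ s, w j ∈ R := by
      rw [← Submodule.Quotient.mk_eq_zero, ← Submodule.mkQ_apply, map_sum, ← hsum]
      exact Finset.sum_congr rfl fun j hj => hwv j hj
    have h2 := decompose_mem_range ℳ φ hφ _ ((hRφ _).mp h1) i
    rw [decompose_sum, DFinsupp.finsetSum_apply, AddSubmonoidClass.coe_finsetSum,
      Finset.sum_eq_single i] at h2
    · rw [decompose_of_mem_same ℳ (hw i hi)] at h2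
      rw [← hwv i hi]
      exact (Submodule.Quotient.mk_eq_zero R).mpr ((hRφ _).mpr h2)
    · intro j hj hji
      rw [decompose_of_mem_ne ℳ (hw j hj) hji]
    · intro hi'; exact absurd hi hi'
  · have : (⨆ i, cokerPiece ℳ y i) = (⨆ i, ℳ i).map (R.mkQ.restrictScalars A) := by
      rw [Submodule.map_iSup]; rfl
    rw [this, h.sup, Submodule.map_top, LinearMap.range_eq_top]
    exact R.mkQ_surjective
  · rintro j i _ ⟨m, hm, rfl⟩
    exact ⟨x j • m, h.shift j i m hm, rfl⟩
  · intro a ha m'
    obtain ⟨m, rfl⟩ := R.mkQ_surjective m'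
    show a • (R.mkQ.restrictScalars A) m = 0
    rw [← map_smul, h.tors a ha m, map_zero]

/-- additivity of length along a four term exact sequence -/
theorem length_four_term {K P Q C : Type*} [AddCommGroup K] [AddCommGroup P] [AddCommGroup Q]
    [AddCommGroup C] [Module A K] [Module A P] [Module A Q] [Module A C]
    (ι : K →ₗ[A] P) (f : P →ₗ[A] Q) (g : Q →ₗ[A] C) (hι : Function.Injective ι)
    (h1 : Function.Exact ι f) (h2 : Function.Exact f g) (hg : Function.Surjective g) :
    Module.length A P + Module.length A C = Module.length A K + Module.length A Q := by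
  have e1 : Function.Exact ι f.rangeRestrict := by
    rw [LinearMap.exact_iff, LinearMap.ker_rangeRestrict]
    exact LinearMap.exact_iff.mp h1
  have e2 : Function.Exact (LinearMap.range f).subtype g := by
    rw [LinearMap.exact_iff, Submodule.range_subtype]
    exact LinearMap.exact_iff.mp h2
  have l1 := Module.length_eq_add_of_exact ι f.rangeRestrict hι f.surjective_rangeRestrict e1
  have l2 := Module.length_eq_add_of_exact (LinearMap.range f).subtype g
    (Submodule.injective_subtype _) hg e2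
  rw [l1, l2]
  ac_rfl

/-- inclusion of the kernel piece -/
def kerIncl (ℳ : ℕ → Submodule A M) (y : S) (i : ℕ) : kerPiece ℳ y i →ₗ[A] ℳ i :=
  LinearMap.codRestrict (ℳ i)
    (((LinearMap.ker (LinearMap.lsmul S M y)).subtype.restrictScalars A).comp
      (kerPiece ℳ y i).subtype) (fun t => t.2)

/-- multiplication by `y` on pieces -/
def mulMap (ℳ : ℕ → Submodule A M) (y : S) (hy : ∀ i, ∀ m ∈ ℳ i, y • m ∈ ℳ (i + 1)) (i : ℕ) :
    ℳ i →ₗ[A] ℳ (i + 1) :=
  ((LinearMap.lsmul S M y).restrictScalars A).restrict (hy i)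

/-- projection to the cokernel piece -/
def toCoker (ℳ : ℕ → Submodule A M) (y : S) (i : ℕ) : ℳ i →ₗ[A] cokerPiece ℳ y i :=
  ((LinearMap.range (LinearMap.lsmul S M y)).mkQ.restrictScalars A).restrict
    (fun _ hm => Submodule.mem_map_of_mem hm)

theorem kerIncl_injective (y : S) (i : ℕ) : Function.Injective (kerIncl ℳ y i) := by
  intro a b hab
  have : ((a : LinearMap.ker (LinearMap.lsmul S M y)) : M) =
      ((b : LinearMap.ker (LinearMap.lsmul S M y)) : M) :=
    congrArg (fun t : ℳ i => (t : M)) hab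
  exact Subtype.ext (Subtype.ext this)

theorem toCoker_surjective (y : S) (i : ℕ) : Function.Surjective (toCoker ℳ y i) := by
  rintro ⟨_, ⟨m, hm, rfl⟩⟩
  exact ⟨⟨m, hm⟩, rfl⟩

theorem exact_kerIncl_mulMap (y : S) (hy : ∀ i, ∀ m ∈ ℳ i, y • m ∈ ℳ (i + 1)) (i : ℕ) :
    Function.Exact (kerIncl ℳ y i) (mulMap ℳ y hy i) := by
  intro m
  constructor
  · intro hm
    have hm' : y • (m : M) = 0 := congrArg (fun t : ℳ (i + 1) => (t : M)) hm
    exact ⟨⟨⟨(m : M), hm'⟩, m.2⟩, rfl⟩
  · rintro ⟨t, rfl⟩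
    apply Subtype.ext
    exact t.1.2

theorem GrData.exact_mulMap_toCoker (h : GrData q x M ℳ) (y : S)
    (hy : ∀ i, ∀ m ∈ ℳ i, y • m ∈ ℳ (i + 1)) (i : ℕ) :
    Function.Exact (mulMap ℳ y hy i) (toCoker ℳ y (i + 1)) := by
  classical
  letI := h.isInternal.chooseDecomposition
  set φ : M →ₗ[A] M := (LinearMap.lsmul S M y).restrictScalars A with hφdef
  have hφ : ∀ i, ∀ m ∈ ℳ i, φ m ∈ ℳ (i + 1) := hy
  intro m
  constructor
  · intro hm
    have hm' : (LinearMap.range (LinearMap.lsmul S M y)).mkQ (m : M) = 0 :=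
      congrArg (fun t : cokerPiece ℳ y (i + 1) =>
        (t : M ⧸ LinearMap.range (LinearMap.lsmul S M y))) hm
    rw [Submodule.mkQ_apply, Submodule.Quotient.mk_eq_zero] at hm'
    obtain ⟨m₀, hm₀, hm₀'⟩ := mem_map_of_mem_range ℳ φ hφ i (m : M) m.2 hm'
    exact ⟨⟨m₀, hm₀⟩, Subtype.ext hm₀'⟩
  · rintro ⟨t, rfl⟩
    apply Subtype.ext
    show (LinearMap.range (LinearMap.lsmul S M y)).mkQ (y • (t : M)) = 0
    rw [Submodule.mkQ_apply, Submodule.Quotient.mk_eq_zero]
    exact ⟨(t : M), rfl⟩

theorem GrData.toCoker_zero_injective (h : GrData q x M ℳ) (y : S)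
    (hy : ∀ i, ∀ m ∈ ℳ i, y • m ∈ ℳ (i + 1)) : Function.Injective (toCoker ℳ y 0) := by
  classical
  letI := h.isInternal.chooseDecomposition
  set φ : M →ₗ[A] M := (LinearMap.lsmul S M y).restrictScalars A with hφdef
  have hφ : ∀ i, ∀ m ∈ ℳ i, φ m ∈ ℳ (i + 1) := hy
  rw [injective_iff_map_eq_zero]
  intro m hm
  have hm' : (LinearMap.range (LinearMap.lsmul S M y)).mkQ (m : M) = 0 :=
    congrArg (fun t : cokerPiece ℳ y 0 =>
      (t : M ⧸ LinearMap.range (LinearMap.lsmul S M y))) hm
  rw [Submodule.mkQ_apply, Submodule.Quotient.mk_eq_zero] at hm'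
  exact Subtype.ext (eq_zero_of_mem_zero_of_mem_range ℳ φ hφ (m : M) m.2 hm')

/-- the basic length relation -/
theorem GrData.length_relation (h : GrData q x M ℳ) (y : S)
    (hy : ∀ i, ∀ m ∈ ℳ i, y • m ∈ ℳ (i + 1)) (i : ℕ) :
    Module.length A (ℳ i) + Module.length A (cokerPiece ℳ y (i + 1)) =
      Module.length A (kerPiece ℳ y i) + Module.length A (ℳ (i + 1)) :=
  length_four_term (kerIncl ℳ y i) (mulMap ℳ y hy i) (toCoker ℳ y (i + 1))
    (kerIncl_injective y i) (exact_kerIncl_mulMap y hy i) (h.exact_mulMap_toCoker y hy i)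
    (toCoker_surjective y (i + 1))

theorem GrData.length_zero (h : GrData q x M ℳ) (y : S)
    (hy : ∀ i, ∀ m ∈ ℳ i, y • m ∈ ℳ (i + 1)) :
    Module.length A (ℳ 0) = Module.length A (cokerPiece ℳ y 0) :=
  (LinearEquiv.ofBijective (toCoker ℳ y 0)
    ⟨h.toCoker_zero_injective y hy, toCoker_surjective y 0⟩).length_eq

end defs

section main

variable {A : Type u} [CommRing A] (q : Ideal A) [IsArtinianRing (A ⧸ q)]
  {S : Type u} [CommRing S] [Algebra A S] {D : ℕ} (x : Fin D → S)
  (hx : Algebra.adjoin A (Set.range x) = ⊤)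

include hx in
/-- if all generators kill `M`, every element of `S` acts as a scalar from `A` -/
theorem exists_smul_eq_of_kill {M : Type u} [AddCommGroup M] [Module S M] [Module A M]
    [IsScalarTower A S M] (hkill : ∀ (j : Fin D) (m : M), x j • m = 0) (s : S) :
    ∃ a : A, ∀ m : M, s • m = a • m := by
  have hs : s ∈ Algebra.adjoin A (Set.range x) := hx ▸ Algebra.mem_top
  induction hs using Algebra.adjoin_induction with
  | mem s hs =>
    obtain ⟨j, rfl⟩ := hs
    exact ⟨0, fun m => by rw [hkill, zero_smul]⟩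
  | algebraMap r => exact ⟨r, fun m => algebraMap_smul S r m⟩
  | add s t _ _ hs ht =>
    obtain ⟨a, ha⟩ := hs
    obtain ⟨b, hb⟩ := ht
    exact ⟨a + b, fun m => by rw [add_smul, add_smul, ha, hb]⟩
  | mul s t _ _ hs ht =>
    obtain ⟨a, ha⟩ := hs
    obtain ⟨b, hb⟩ := ht
    exact ⟨a * b, fun m => by rw [mul_smul, hb, ha, mul_smul]⟩

include hx in
theorem GrData.base {M : Type u} [AddCommGroup M] [Module S M] [Module A M]
    [IsScalarTower A S M] [Module.Finite S M] {ℳ : ℕ → Submodule A M} (h : GrData q x M ℳ)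
    (hkill : ∀ (j : Fin D) (m : M), x j • m = 0) :
    (∀ i, IsFiniteLength A (ℳ i)) ∧ ∃ N : ℕ, ∀ i, N ≤ i → ℳ i = ⊥ := by
  classical
  -- `M` is finite over `A`
  obtain ⟨G, hG⟩ := (Module.Finite.fg_top : (⊤ : Submodule S M).FG)
  have hspan : Submodule.span A (G : Set M) = ⊤ := by
    rw [eq_top_iff]
    rintro m -
    have hm : m ∈ Submodule.span S (G : Set M) := hG ▸ Submodule.mem_top
    induction hm using Submodule.span_induction with
    | mem m hm => exact Submodule.subset_span hm
    | zero => exact Submodule.zero_mem _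
    | add m m' _ _ hm hm' => exact Submodule.add_mem _ hm hm'
    | smul s m _ hm =>
      obtain ⟨a, ha⟩ := exists_smul_eq_of_kill x hx hkill s
      rw [ha]
      exact Submodule.smul_mem _ a hm
  haveI : Module.Finite A M := ⟨⟨G, hspan⟩⟩
  have hfl : IsFiniteLength A M := isFiniteLength_of_finite_of_torsion q M h.tors
  refine ⟨fun i => IsFiniteLength.of_injective hfl (ℳ i).injective_subtype, ?_⟩
  haveI : IsNoetherian A M := (isFiniteLength_iff_isNoetherian_isArtinian.mp hfl).1
  have hfin : {i | ℳ i ≠ ⊥}.Finite := WellFoundedGT.finite_ne_bot_of_iSupIndep h.indep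
  obtain ⟨N, hN⟩ := hfin.bddAbove
  refine ⟨N + 1, fun i hi => ?_⟩
  by_contra hne
  have := hN hne
  omega

theorem lenZ_eq_zero_of_eq_bot {M : Type u} [AddCommGroup M] [Module A M]
    (ℳ : ℕ → Submodule A M) (i : ℕ) (h : ℳ i = ⊥) : lenZ ℳ i = 0 := by
  haveI : Subsingleton (ℳ i) := Submodule.subsingleton_iff_eq_bot.mpr h
  rw [lenZ, Module.length_eq_zero]
  rfl

variable [IsNoetherianRing S]

include hx in
/-- **Hilbert–Serre** -/
theorem hilbert_serre : ∀ (d : ℕ), d ≤ D → ∀ (M : Type u) [AddCommGroup M] [Module S M]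
    [Module A M] [IsScalarTower A S M] [Module.Finite S M] (ℳ : ℕ → Submodule A M),
    GrData q x M ℳ → (∀ j : Fin D, d ≤ j.val → ∀ m : M, x j • m = 0) →
    (∀ i, IsFiniteLength A (ℳ i)) ∧ EvBinom d (lenZ ℳ) := by
  intro d
  induction d with
  | zero =>
    intro _ M _ _ _ _ _ ℳ h hkill
    obtain ⟨hfin, N, hN⟩ := h.base q x hx (fun j m => hkill j (Nat.zero_le _) m)
    exact ⟨hfin, (EvBinom.zero 0).congr N fun i hi => lenZ_eq_zero_of_eq_bot ℳ i (hN i hi)⟩
  | succ d ih =>
    intro hd M _ _ _ _ _ ℳ h hkill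
    set j₀ : Fin D := ⟨d, hd⟩ with hj₀
    set y : S := x j₀ with hy_def
    have hy : ∀ i, ∀ m ∈ ℳ i, y • m ∈ ℳ (i + 1) := fun i m hm => h.shift j₀ i m hm
    haveI : IsNoetherian S M := isNoetherian_of_isNoetherianRing_of_finite S M
    haveI : Module.Finite S (LinearMap.ker (LinearMap.lsmul S M y)) :=
      Module.IsNoetherian.finite S _
    have hkillK : ∀ j : Fin D, d ≤ j.val →
        ∀ k : LinearMap.ker (LinearMap.lsmul S M y), x j • k = 0 := by
      rintro j hj ⟨m, hm⟩
      apply Subtype.ext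
      show x j • m = 0
      rcases Nat.eq_or_lt_of_le hj with hjd | hjd
      · have : j = j₀ := Fin.ext hjd.symm
        rw [this]
        exact hm
      · exact hkill j hjd m
    have hkillC : ∀ j : Fin D, d ≤ j.val →
        ∀ c : M ⧸ LinearMap.range (LinearMap.lsmul S M y), x j • c = 0 := by
      intro j hj c
      obtain ⟨m, rfl⟩ := (LinearMap.range (LinearMap.lsmul S M y)).mkQ_surjective c
      rw [← map_smul, Submodule.mkQ_apply, Submodule.Quotient.mk_eq_zero]
      rcases Nat.eq_or_lt_of_le hj with hjd | hjd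
      · have : j = j₀ := Fin.ext hjd.symm
        rw [this]
        exact ⟨m, rfl⟩
      · rw [hkill j hjd m]
        exact Submodule.zero_mem _
    obtain ⟨finK, evK⟩ := ih (Nat.le_of_succ_le hd) _ (kerPiece ℳ y) (h.ker y hy) hkillK
    obtain ⟨finC, evC⟩ := ih (Nat.le_of_succ_le hd) _ (cokerPiece ℳ y) (h.coker y hy) hkillC
    have hfin : ∀ i, IsFiniteLength A (ℳ i) := by
      intro i
      induction i with
      | zero =>
        rw [← Module.length_ne_top_iff, h.length_zero y hy, Module.length_ne_top_iff]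
        exact finC 0
      | succ i ihi =>
        have hrel := h.length_relation y hy i
        rw [← Module.length_ne_top_iff] at ihi ⊢
        have hC := Module.length_ne_top_iff.mpr (finC (i + 1))
        intro htop
        rw [htop, add_top] at hrel
        exact (WithTop.add_ne_top.mpr ⟨ihi, hC⟩) hrel
    refine ⟨hfin, EvBinom.of_diff ?_⟩
    refine (evC.shift.sub evK).congr 0 fun i _ => ?_
    have hrel := h.length_relation y hy i
    have h1 := Module.length_ne_top_iff.mpr (hfin i)
    have h2 := Module.length_ne_top_iff.mpr (hfin (i + 1))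
    have h3 := Module.length_ne_top_iff.mpr (finK i)
    have h4 := Module.length_ne_top_iff.mpr (finC (i + 1))
    have hnat := congrArg ENat.toNat hrel
    rw [ENat.toNat_add h1 h4, ENat.toNat_add h3 h2] at hnat
    simp only [lenZ]
    omega

end main

end Groth.Agent.Lib.Helper85.HS
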