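import Groth.Agent.Lib.Helper85.HS.IntegralMult

/-!
# The leading coefficient of the Samuel function (helper85)
-/

set_option autoImplicit false
set_option linter.style.haveILetI false
universe u

namespace Groth.Agent.Lib.Helper85.HS

open Module Filter Topology Pointwise

variable {A : Type u} [CommRing A] [IsNoetherianRing A]

/-- if some `M ⧸ Jⁿ M` vanishes with `n ≥ 1` and `J` in the radical, then `M = 0` -/
theorem subsingleton_of_samuel_eq_zero (J : Ideal A) (hJr : J ≤ Ring.jacobson A)
    [IsArtinianRing (A ⧸ J)] (M : Type u) [AddCommGroup M] [Module A M] [Module.Finite A M]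
    (n : ℕ) (h : samuel J M (n + 1) = 0) : Subsingleton M := by
  have h1 := length_eq_samuel (N := M) J (n + 1)
  rw [h] at h1
  have h2 : Module.length A (M ⧸ J ^ (n + 1) • (⊤ : Submodule A M)) = 0 := by simpa using h1
  rw [Module.length_eq_zero_iff, Submodule.Quotient.subsingleton_iff] at h2
  have h3 : (⊤ : Submodule A M) ≤ J • (⊤ : Submodule A M) := by
    calc (⊤ : Submodule A M) = J ^ (n + 1) • (⊤ : Submodule A M) := h2.symm
      _ = J • (J ^ n • (⊤ : Submodule A M)) := by rw [pow_succ', mul_smul]
      _ ≤ J • (⊤ : Submodule A M) := Submodule.smul_mono le_rfl le_top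
  have h4 : (⊤ : Submodule A M) = ⊥ :=
    Submodule.eq_bot_of_le_smul_of_le_jacobson_bot J _ (IsNoetherian.noetherian _) h3
      (by rwa [Ideal.jacobson_bot])
  exact (Submodule.subsingleton_iff A).mp ⟨fun x y => by
    have : ∀ z : Submodule A M, z = ⊥ := fun z => le_bot_iff.mp (h4 ▸ le_top)
    rw [this x, this y]⟩

/-- the Samuel function of a module of dimension exactly `d` has a positive coefficient in
degree `d` -/
theorem exists_top_pos (J : Ideal A) (hJ : ∀ p : Ideal A, p.IsPrime → J ≤ p → p.IsMaximal)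
    (hJr : J ≤ Ring.jacobson A) [IsArtinianRing (A ⧸ J)] (d : ℕ) (M : Type u) [AddCommGroup M]
    [Module A M] [Module.Finite A M] (hdim : supportDim A M = d) :
    ∃ (a : ℤ) (h : ℕ → ℤ), 0 < a ∧ EvBinom d h ∧
      ∃ N, ∀ i, N ≤ i → samuel J M i = a * B d i + h i := by
  have hev : EvBinom (d + 1) (samuel J M) := evBinom_samuel_of_supportDim_le J hJ d M hdim.le
  obtain ⟨a, h, hh, N, hfa⟩ := hev.exists_top
  refine ⟨a, h, ?_, hh, N, hfa⟩
  rcases lt_trichotomy a 0 with hneg | hzero | hpos
  · exfalso
    obtain ⟨N₃, hN₃⟩ := hh.eventually_neg a hneg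
    have h1 := hN₃ (max N N₃) (le_max_right _ _)
    have h2 := hfa (max N N₃) (le_max_left _ _)
    have h3 := samuel_nonneg (N := M) J (max N N₃)
    omega
  · exfalso
    have hev' : EvBinom d (samuel J M) := hh.congr N fun i hi => by rw [hfa i hi, hzero]; ring
    rcases Nat.eq_zero_or_pos d with h0 | h0
    · subst h0
      obtain ⟨c, N', hc⟩ := hev'
      have h1 : samuel J M (N' + 1) = 0 := by
        rw [hc (N' + 1) (Nat.le_succ _)]; simp
      haveI := subsingleton_of_samuel_eq_zero J hJr M N' h1
      rw [Module.supportDim_eq_bot_of_subsingleton] at hdim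
      exact absurd hdim (by simp)
    · obtain ⟨e, rfl⟩ : ∃ e, d = e + 1 := ⟨d - 1, by omega⟩
      have h3 := supportDim_le_of_evBinom (I := J) hJr e M hev'
      rw [hdim] at h3
      have h4 : e + 1 ≤ e := by exact_mod_cast h3
      omega
  · exact hpos

end Groth.Agent.Lib.Helper85.HS
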