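import Groth.Agent.Lib.Helper85.HS.DimThm

/-!
# Ideals of definition: parameters inside a given ideal (helper85)

`J` an ideal of a Noetherian ring such that every prime containing `J` is maximal.
-/

set_option autoImplicit false
set_option linter.style.haveILetI false
universe u

namespace Groth.Agent.Lib.Helper85.HS

open Module Pointwise

variable {A : Type u} [CommRing A] [IsNoetherianRing A]

/-- `A ⧸ J` is Artinian when every prime over `J` is maximal -/
theorem isArtinianRing_quotient_of_forall_isMaximal (J : Ideal A)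
    (hJ : ∀ p : Ideal A, p.IsPrime → J ≤ p → p.IsMaximal) : IsArtinianRing (A ⧸ J) := by
  rw [isArtinianRing_iff_krullDimLE_zero, Ring.krullDimLE_zero_iff]
  intro q hq
  have hsurj : Function.Surjective (Ideal.Quotient.mk J) := Ideal.Quotient.mk_surjective
  haveI : (q.comap (Ideal.Quotient.mk J)).IsPrime := Ideal.comap_isPrime _ q
  have hle : J ≤ q.comap (Ideal.Quotient.mk J) := by
    intro a ha
    rw [Ideal.mem_comap, Ideal.Quotient.eq_zero_iff_mem.mpr ha]
    exact q.zero_mem
  have hmax := hJ _ inferInstance hle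
  rw [← Ideal.map_comap_of_surjective _ hsurj q]
  exact (Ideal.map_eq_top_or_isMaximal_of_surjective _ hsurj hmax).resolve_left (by
    rw [Ideal.map_comap_of_surjective _ hsurj q]; exact hq.ne_top)

theorem exists_mem_notMem_minimalPrimes (J : Ideal A)
    (hJ : ∀ p : Ideal A, p.IsPrime → J ≤ p → p.IsMaximal) (I : Ideal A) :
    ∃ x ∈ J, ∀ p ∈ I.minimalPrimes, ¬ p.IsMaximal → x ∉ p := by
  classical
  set T : Set (Ideal A) := {p | p ∈ I.minimalPrimes ∧ ¬ p.IsMaximal} with hT
  have hfin : T.Finite :=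
    (Ideal.finite_minimalPrimes_of_isNoetherianRing A I).subset fun p hp => hp.1
  have hnot : ¬ ((J : Set A) ⊆ ⋃ p ∈ T, (p : Set A)) := by
    intro hsub
    obtain ⟨p, hp, hle⟩ := (Ideal.subset_union_prime_finite hfin (f := id) ⊥ ⊥
      (fun p hp _ _ => hp.1.1.1)).mp hsub
    exact hp.2 (hJ p hp.1.1.1 hle)
  rw [Set.not_subset] at hnot
  obtain ⟨x, hx, hxT⟩ := hnot
  refine ⟨x, hx, fun p hp hmax hxp => hxT ?_⟩
  exact Set.mem_biUnion (show p ∈ T from ⟨hp, hmax⟩) hxp

/-- existence of a "system of parameters" inside `J` -/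
theorem exists_fin_isFiniteLength_quotient_of_ideal (J : Ideal A)
    (hJ : ∀ p : Ideal A, p.IsPrime → J ≤ p → p.IsMaximal) :
    ∀ (k : ℕ) (M : Type u) [AddCommGroup M]
    [Module A M] [Module.Finite A M], supportDim A M ≤ k →
    ∃ x : Fin k → A, (∀ i, x i ∈ J) ∧
      IsFiniteLength A (M ⧸ (Ideal.span (Set.range x) • (⊤ : Submodule A M))) := by
  intro k
  induction k with
  | zero =>
    intro M _ _ _ h
    refine ⟨Fin.elim0, fun i => i.elim0, ?_⟩
    have h0 : Ideal.span (Set.range (Fin.elim0 : Fin 0 → A)) • (⊤ : Submodule A M) = ⊥ := by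
      have : Set.range (Fin.elim0 : Fin 0 → A) = ∅ := Set.range_eq_empty _
      rw [this, Ideal.span_empty, Submodule.bot_smul]
    exact (Submodule.quotEquivOfEqBot _ h0).symm.isFiniteLength
      (isFiniteLength_of_supportDim_le_zero M (by exact_mod_cast h))
  | succ k ih =>
    intro M _ _ _ h
    obtain ⟨x₀, hx₀, hx₀p⟩ := exists_mem_notMem_minimalPrimes J hJ (annihilator A M)
    have hdim' := supportDim_quotSMulTop_le M x₀ hx₀p k h
    obtain ⟨x', hx', hfl⟩ := ih (QuotSMulTop x₀ M) hdim'
    refine ⟨Fin.cons x₀ x', fun i => ?_, (quotConsEquiv x₀ x').isFiniteLength hfl⟩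
    refine Fin.cases ?_ (fun i => ?_) i
    · simpa using hx₀
    · simpa using hx' i

/-- the Samuel function of an ideal of definition `J` has degree at most `dim M` -/
theorem evBinom_samuel_of_supportDim_le (J : Ideal A)
    (hJ : ∀ p : Ideal A, p.IsPrime → J ≤ p → p.IsMaximal) [IsArtinianRing (A ⧸ J)]
    (k : ℕ) (M : Type u) [AddCommGroup M] [Module A M] [Module.Finite A M]
    (h : supportDim A M ≤ k) : EvBinom (k + 1) (samuel J M) := by
  obtain ⟨x, hx, hfl⟩ := exists_fin_isFiniteLength_quotient_of_ideal J hJ k M h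
  exact evBinom_of_isFiniteLength_quotient J k M x hx hfl

end Groth.Agent.Lib.Helper85.HS
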