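import Groth.Agent.Lib.Helper85.HS.Binomial2

/-!
# Asymptotics of eventually binomial functions (helper85)
-/

set_option autoImplicit false

namespace Groth.Agent.Lib.Helper85.HS

open Polynomial Filter Topology Finset

theorem preHilbertPoly_ne_zero (k : ℕ) : preHilbertPoly ℝ k 0 ≠ 0 := by
  intro h
  have := leadingCoeff_preHilbertPoly ℝ k 0
  rw [h, leadingCoeff_zero] at this
  exact (inv_ne_zero (by exact_mod_cast Nat.factorial_ne_zero k)) this.symm

theorem degree_preHilbertPoly (k : ℕ) : (preHilbertPoly ℝ k 0).degree = k := by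
  rw [degree_eq_natDegree (preHilbertPoly_ne_zero k), natDegree_preHilbertPoly]

theorem tendsto_choose_div_pow (k : ℕ) :
    Tendsto (fun n : ℕ => ((n + k).choose k : ℝ) / (n : ℝ) ^ k) atTop
      (𝓝 ((k.factorial : ℝ)⁻¹)) := by
  have h := div_tendsto_atTop_leadingCoeff_div_of_degree_eq (preHilbertPoly ℝ k 0) (X ^ k)
    (by rw [degree_preHilbertPoly, degree_X_pow])
  have h2 := h.comp tendsto_natCast_atTop_atTop
  rw [leadingCoeff_preHilbertPoly, leadingCoeff_X_pow, div_one] at h2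
  refine h2.congr fun n => ?_
  simp only [Function.comp_apply, eval_pow, eval_X]
  rw [preHilbertPoly_eq_choose_sub_add ℝ k (Nat.zero_le n), Nat.sub_zero]

theorem tendsto_choose_div_pow_zero {k d : ℕ} (hkd : k < d) :
    Tendsto (fun n : ℕ => ((n + k).choose k : ℝ) / (n : ℝ) ^ d) atTop (𝓝 0) := by
  have h := div_tendsto_atTop_zero_of_degree_lt (preHilbertPoly ℝ k 0) (X ^ d)
    (by rw [degree_preHilbertPoly, degree_X_pow]; exact_mod_cast hkd)
  have h2 := h.comp tendsto_natCast_atTop_atTop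
  refine h2.congr fun n => ?_
  simp only [Function.comp_apply, eval_pow, eval_X]
  rw [preHilbertPoly_eq_choose_sub_add ℝ k (Nat.zero_le n), Nat.sub_zero]

/-- a function of degree `< d` is `o(n^d)` -/
theorem EvBinom.tendsto_div_pow_zero {d : ℕ} {f : ℕ → ℤ} (hf : EvBinom d f) :
    Tendsto (fun n : ℕ => (f n : ℝ) / (n : ℝ) ^ d) atTop (𝓝 0) := by
  obtain ⟨c, N, hc⟩ := hf
  have h1 : Tendsto (fun n : ℕ => ∑ k ∈ range d, (c k : ℝ) * (((n + k).choose k : ℝ) / (n : ℝ) ^ d))
      atTop (𝓝 (∑ k ∈ range d, (c k : ℝ) * 0)) :=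
    tendsto_finset_sum _ fun k hk =>
      (tendsto_choose_div_pow_zero (Finset.mem_range.mp hk)).const_mul _
  simp only [mul_zero, Finset.sum_const_zero] at h1
  refine h1.congr' ?_
  filter_upwards [eventually_ge_atTop N] with n hn
  rw [hc n hn]
  push_cast
  rw [Finset.sum_div]
  refine Finset.sum_congr rfl fun k _ => ?_
  ring

/-- the normalized leading coefficient as a limit -/
theorem EvBinom.tendsto_of_top {d : ℕ} {f h : ℕ → ℤ} (a : ℤ) (hh : EvBinom d h) (N : ℕ)
    (hfa : ∀ i, N ≤ i → f i = a * B d i + h i) :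
    Tendsto (fun n : ℕ => (d.factorial : ℝ) * (f n : ℝ) / (n : ℝ) ^ d) atTop (𝓝 (a : ℝ)) := by
  have h1 := (tendsto_choose_div_pow d).const_mul ((d.factorial : ℝ) * (a : ℝ))
  have h2 := (hh.tendsto_div_pow_zero).const_mul (d.factorial : ℝ)
  have h3 := h1.add h2
  have hfac : (d.factorial : ℝ) ≠ 0 := by exact_mod_cast Nat.factorial_ne_zero d
  have hlim : (d.factorial : ℝ) * (a : ℝ) * ((d.factorial : ℝ))⁻¹ + (d.factorial : ℝ) * 0 =
      (a : ℝ) := by
    field_simp
    ring
  rw [hlim] at h3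
  refine h3.congr' ?_
  filter_upwards [eventually_ge_atTop N] with n hn
  rw [hfa n hn]
  unfold B
  push_cast
  ring

/-- existence of the normalized limit -/
theorem EvBinom.exists_tendsto {d : ℕ} {f : ℕ → ℤ} (hf : EvBinom (d + 1) f) :
    ∃ a : ℤ, Tendsto (fun n : ℕ => (d.factorial : ℝ) * (f n : ℝ) / (n : ℝ) ^ d) atTop
      (𝓝 (a : ℝ)) := by
  obtain ⟨a, h, hh, N, hfa⟩ := hf.exists_top
  exact ⟨a, EvBinom.tendsto_of_top a hh N hfa⟩

end Groth.Agent.Lib.Helper85.HS
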