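import Mathlib

/-!
# Reductions of ideals (helper85)

If every element of a finitely generated ideal `a ⊇ b` satisfies an equation of integral dependence
over `b`, then `a ^ (r + 1) = b * a ^ r` for some `r`.
-/

set_option autoImplicit false

namespace Groth.Agent.Lib.Helper85.HS

variable {A : Type*} [CommRing A]

/-- refined pigeonhole principle for powers of a sum of ideals -/
theorem sup_pow_succ_le (I J : Ideal A) (n : ℕ) : ∀ p q : ℕ, n = p + q →
    (I ⊔ J) ^ (n + 1) ≤ I ^ (p + 1) * (I ⊔ J) ^ q ⊔ J ^ (q + 1) * (I ⊔ J) ^ p := by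
  induction n with
  | zero =>
    intro p q h
    obtain ⟨rfl, rfl⟩ : p = 0 ∧ q = 0 := by omega
    simp
  | succ n ih =>
    intro p q h
    have hI : I ≤ I ⊔ J := le_sup_left
    have hJ : J ≤ I ⊔ J := le_sup_right
    generalize hK : I ⊔ J = K at ih hI hJ ⊢
    have hsplit : K ^ (n + 1 + 1) = I * K ^ (n + 1) ⊔ J * K ^ (n + 1) := by
      rw [pow_succ' K (n + 1)]
      nth_rewrite 1 [← hK]
      rw [Ideal.sup_mul]
    rw [hsplit]
    apply sup_le
    · rcases Nat.eq_zero_or_pos p with hp | hp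
      · subst hp
        obtain rfl : q = n + 1 := by omega
        refine le_trans (le_of_eq ?_) le_sup_left
        ring
      · obtain ⟨p', rfl⟩ : ∃ p', p = p' + 1 := ⟨p - 1, by omega⟩
        have h1 := ih p' q (by omega)
        calc I * K ^ (n + 1) ≤ I * (I ^ (p' + 1) * K ^ q ⊔ J ^ (q + 1) * K ^ p') :=
              Ideal.mul_mono le_rfl h1
          _ = I * (I ^ (p' + 1) * K ^ q) ⊔ I * (J ^ (q + 1) * K ^ p') := Ideal.mul_sup _ _ _
          _ ≤ I ^ (p' + 1 + 1) * K ^ q ⊔ J ^ (q + 1) * K ^ (p' + 1) := by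
              apply sup_le_sup
              · exact le_of_eq (by ring)
              · calc I * (J ^ (q + 1) * K ^ p') = J ^ (q + 1) * (I * K ^ p') := by ring
                  _ ≤ J ^ (q + 1) * (K * K ^ p') := Ideal.mul_mono le_rfl (Ideal.mul_mono hI le_rfl)
                  _ = J ^ (q + 1) * K ^ (p' + 1) := by ring
    · rcases Nat.eq_zero_or_pos q with hq | hq
      · subst hq
        obtain rfl : p = n + 1 := by omega
        refine le_trans (le_of_eq ?_) le_sup_right
        ring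
      · obtain ⟨q', rfl⟩ : ∃ q', q = q' + 1 := ⟨q - 1, by omega⟩
        have h1 := ih p q' (by omega)
        calc J * K ^ (n + 1) ≤ J * (I ^ (p + 1) * K ^ q' ⊔ J ^ (q' + 1) * K ^ p) :=
              Ideal.mul_mono le_rfl h1
          _ = J * (I ^ (p + 1) * K ^ q') ⊔ J * (J ^ (q' + 1) * K ^ p) := Ideal.mul_sup _ _ _
          _ ≤ I ^ (p + 1) * K ^ (q' + 1) ⊔ J ^ (q' + 1 + 1) * K ^ p := by
              apply sup_le_sup
              · calc J * (I ^ (p + 1) * K ^ q') = I ^ (p + 1) * (J * K ^ q') := by ring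
                  _ ≤ I ^ (p + 1) * (K * K ^ q') := Ideal.mul_mono le_rfl (Ideal.mul_mono hJ le_rfl)
                  _ = I ^ (p + 1) * K ^ (q' + 1) := by ring
              · exact le_of_eq (by ring)

/-- an equation of integral dependence of `x ∈ a` over `b ≤ a` puts `x ^ n` in `b * a ^ (n-1)` -/
theorem pow_mem_mul_pow_of_integral (a b : Ideal A) (hba : b ≤ a) (x : A) (hx : x ∈ a) (n : ℕ)
    (c : Fin n → A) (hc : ∀ i : Fin n, c i ∈ b ^ ((i : ℕ) + 1))
    (heq : x ^ n + ∑ i : Fin n, c i * x ^ (n - 1 - (i : ℕ)) = 0) : x ^ n ∈ b * a ^ (n - 1) := by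
  have h1 : x ^ n = - ∑ i : Fin n, c i * x ^ (n - 1 - (i : ℕ)) := eq_neg_of_add_eq_zero_left heq
  rw [h1]
  refine neg_mem (Ideal.sum_mem _ fun i _ => ?_)
  have h2 : b ^ ((i : ℕ) + 1) ≤ b * a ^ (i : ℕ) := by
    rw [pow_succ']
    exact Ideal.mul_mono le_rfl (Ideal.pow_right_mono hba _)
  have h3 : c i * x ^ (n - 1 - (i : ℕ)) ∈ (b * a ^ (i : ℕ)) * a ^ (n - 1 - (i : ℕ)) :=
    Ideal.mul_mem_mul (h2 (hc i)) (Ideal.pow_mem_pow hx _)
  have h4 : (b * a ^ (i : ℕ)) * a ^ (n - 1 - (i : ℕ)) = b * a ^ (n - 1) := by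
    rw [mul_assoc, ← pow_add]
    congr 2
    have := i.2
    omega
  rwa [h4] at h3

/-- existence of a reduction number -/
theorem exists_pow_succ_le_mul_pow (a b : Ideal A) (hfg : a.FG)
    (h : ∀ x ∈ a, ∃ q : ℕ, x ^ (q + 1) ∈ b * a ^ q) : ∃ r : ℕ, a ^ (r + 1) ≤ b * a ^ r := by
  classical
  obtain ⟨S, hS⟩ := hfg
  have key : ∀ T : Finset A, (∀ x ∈ T, x ∈ a) →
      ∃ N : ℕ, (Ideal.span (T : Set A)) ^ (N + 1) ≤ b * a ^ N := by
    intro T
    induction T using Finset.induction_on with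
    | empty =>
      intro _
      exact ⟨0, by simp⟩
    | insert x T hxT ih =>
      intro hT
      obtain ⟨N', hN'⟩ := ih fun y hy => hT y (Finset.mem_insert_of_mem hy)
      obtain ⟨q, hq⟩ := h x (hT x (Finset.mem_insert_self x T))
      have hca : Ideal.span ((insert x T : Finset A) : Set A) ≤ a := by
        rw [Ideal.span_le]
        intro y hy
        exact hT y (by simpa using hy)
      have hspan : Ideal.span ((insert x T : Finset A) : Set A) =
          Ideal.span (T : Set A) ⊔ Ideal.span {x} := by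
        rw [Finset.coe_insert, Ideal.span_insert, sup_comm]
      refine ⟨N' + q, ?_⟩
      have h1 := sup_pow_succ_le (Ideal.span (T : Set A)) (Ideal.span {x}) (N' + q) N' q rfl
      rw [← hspan] at h1
      refine h1.trans (sup_le ?_ ?_)
      · calc Ideal.span (T : Set A) ^ (N' + 1) * Ideal.span ((insert x T : Finset A) : Set A) ^ q
            ≤ (b * a ^ N') * a ^ q := Ideal.mul_mono hN' (Ideal.pow_right_mono hca _)
          _ = b * a ^ (N' + q) := by rw [mul_assoc, ← pow_add]
      · have h2 : Ideal.span {x} ^ (q + 1) ≤ b * a ^ q := by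
          rw [Ideal.span_singleton_pow, Ideal.span_singleton_le_iff_mem]
          exact hq
        calc Ideal.span {x} ^ (q + 1) * Ideal.span ((insert x T : Finset A) : Set A) ^ N'
            ≤ (b * a ^ q) * a ^ N' := Ideal.mul_mono h2 (Ideal.pow_right_mono hca _)
          _ = b * a ^ (N' + q) := by rw [mul_assoc, ← pow_add, add_comm]
  obtain ⟨N, hN⟩ := key S fun x hx => by rw [← hS]; exact Ideal.subset_span hx
  rw [hS] at hN
  exact ⟨N, hN⟩

/-- `a ^ (m + r) ≤ b ^ m` from a reduction number `r` -/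
theorem pow_add_le_pow_of_reduction (a b : Ideal A) (r : ℕ) (h : a ^ (r + 1) ≤ b * a ^ r) (m : ℕ) :
    a ^ (m + r) ≤ b ^ m := by
  have key : ∀ m : ℕ, a ^ (m + r) ≤ b ^ m * a ^ r := by
    intro m
    induction m with
    | zero => simp
    | succ m ih =>
      calc a ^ (m + 1 + r) = a ^ (m + r) * a := by rw [← pow_succ]; congr 1; omega
        _ ≤ (b ^ m * a ^ r) * a := Ideal.mul_mono ih le_rfl
        _ = b ^ m * a ^ (r + 1) := by rw [mul_assoc, ← pow_succ]
        _ ≤ b ^ m * (b * a ^ r) := Ideal.mul_mono le_rfl h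
        _ = b ^ (m + 1) * a ^ r := by rw [← mul_assoc, ← pow_succ]
  exact (key m).trans Ideal.mul_le_left

end Groth.Agent.Lib.Helper85.HS
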