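import Groth.Agent.Lib.Helper85.HS.Primary
import Groth.Agent.Lib.Helper85.HS.Reduction
import Groth.Agent.Lib.Helper85.HS.Limit

/-!
# Samuel functions of an ideal and of a reduction (helper85)
-/

set_option autoImplicit false
set_option linter.style.haveILetI false
universe u

namespace Groth.Agent.Lib.Helper85.HS

open Module Filter Topology

variable {A : Type u} [CommRing A]

/-- `A ⧸ I` as a quotient module of `A` by `I • ⊤` -/
theorem length_quotient_smul_top_self (I : Ideal A) :
    Module.length A (A ⧸ (I • (⊤ : Submodule A A))) = Module.length A (A ⧸ I) :=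
  (Submodule.quotEquivOfEq _ _ (by simp)).length_eq

theorem samuel_self (I : Ideal A) (m : ℕ) :
    samuel I A m = ((Module.length A (A ⧸ I ^ m)).toNat : ℤ) := by
  unfold samuel
  rw [length_quotient_smul_top_self]

variable [IsNoetherianRing A] [IsLocalRing A]

omit [IsNoetherianRing A] in
theorem isMaximal_of_pow_maximalIdeal_le (a : Ideal A)
    (ha : ∃ N : ℕ, IsLocalRing.maximalIdeal A ^ N ≤ a) (p : Ideal A) (hp : p.IsPrime)
    (hap : a ≤ p) : p.IsMaximal := by
  obtain ⟨N, hN⟩ := ha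
  have h1 : IsLocalRing.maximalIdeal A ≤ p := Ideal.IsPrime.le_of_pow_le (hN.trans hap)
  rw [← (IsLocalRing.maximalIdeal.isMaximal A).eq_of_le hp.ne_top h1]
  exact IsLocalRing.maximalIdeal.isMaximal A

/-- integrally dependent `𝔪`-primary ideals have the same multiplicity -/
theorem tendsto_samuel_sub_of_integral (d : ℕ) (hd : ringKrullDim A = d) (a b : Ideal A)
    (hba : b ≤ a) (hb : ∃ N : ℕ, IsLocalRing.maximalIdeal A ^ N ≤ b)
    (hint : ∀ x ∈ a, ∃ n : ℕ, 0 < n ∧ ∃ c : Fin n → A,
      (∀ i : Fin n, c i ∈ b ^ ((i : ℕ) + 1)) ∧ x ^ n + ∑ i : Fin n, c i * x ^ (n - 1 - (i : ℕ)) = 0) :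
    Tendsto (fun m : ℕ => (((Module.length A (A ⧸ b ^ m)).toNat : ℝ) -
        ((Module.length A (A ⧸ a ^ m)).toNat : ℝ)) / (m : ℝ) ^ d) atTop (𝓝 0) := by
  have hJ : ∀ p : Ideal A, p.IsPrime → a ≤ p → p.IsMaximal :=
    isMaximal_of_pow_maximalIdeal_le a (by obtain ⟨N, hN⟩ := hb; exact ⟨N, hN.trans hba⟩)
  haveI := isArtinianRing_quotient_of_forall_isMaximal a hJ
  have hdim : supportDim A A ≤ d := by
    rw [Module.supportDim_self_eq_ringKrullDim, hd]
  have hev : EvBinom (d + 1) (samuel a A) := evBinom_samuel_of_supportDim_le a hJ d A hdim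
  obtain ⟨r, hr⟩ := exists_pow_succ_le_mul_pow a b (IsNoetherian.noetherian a) (fun x hx => by
    obtain ⟨n, hn, c, hc, heq⟩ := hint x hx
    have := pow_mem_mul_pow_of_integral a b hba x hx n c hc heq
    exact ⟨n - 1, by rwa [Nat.sub_add_cancel hn]⟩)
  have hpow := pow_add_le_pow_of_reduction a b r hr
  have hg : EvBinom d (fun m => samuel a A (m + r) - samuel a A m) := by
    refine ((hev.sub_unshift r).shift_iter r).congr 0 fun i _ => ?_
    show samuel a A (i + r) - samuel a A i = samuel a A (i + r) - samuel a A (i + r - r)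
    rw [Nat.add_sub_cancel]
  have hlim := hg.tendsto_div_pow_zero
  have hfin : ∀ m, Module.length A (A ⧸ a ^ m) ≠ ⊤ := by
    intro m
    rw [← length_quotient_smul_top_self]
    exact Module.length_ne_top_iff.mpr (isFiniteLength_quotient_pow a A m)
  have hle1 : ∀ m, (Module.length A (A ⧸ a ^ m)).toNat ≤ (Module.length A (A ⧸ b ^ m)).toNat := by
    intro m
    have h1 : Module.length A (A ⧸ a ^ m) ≤ Module.length A (A ⧸ b ^ m) :=
      length_quotient_le_of_le (b ^ m) (a ^ m) (Ideal.pow_right_mono hba m)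
    have h2 : Module.length A (A ⧸ b ^ m) ≤ Module.length A (A ⧸ a ^ (m + r)) :=
      length_quotient_le_of_le (a ^ (m + r)) (b ^ m) (hpow m)
    exact ENat.toNat_le_toNat h1 (ne_top_of_le_ne_top (hfin (m + r)) h2)
  have hle2 : ∀ m, (Module.length A (A ⧸ b ^ m)).toNat ≤
      (Module.length A (A ⧸ a ^ (m + r))).toNat := by
    intro m
    have h2 : Module.length A (A ⧸ b ^ m) ≤ Module.length A (A ⧸ a ^ (m + r)) :=
      length_quotient_le_of_le (a ^ (m + r)) (b ^ m) (hpow m)
    exact ENat.toNat_le_toNat h2 (hfin (m + r))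
  refine tendsto_of_tendsto_of_tendsto_of_le_of_le tendsto_const_nhds hlim (fun m => ?_)
    (fun m => ?_)
  · have h1 : ((Module.length A (A ⧸ a ^ m)).toNat : ℝ) ≤ (Module.length A (A ⧸ b ^ m)).toNat := by
      exact_mod_cast hle1 m
    have h2 : (0 : ℝ) ≤ (m : ℝ) ^ d := by positivity
    exact div_nonneg (by linarith) h2
  · have h2 : (0 : ℝ) ≤ (m : ℝ) ^ d := by positivity
    refine div_le_div_of_nonneg_right ?_ h2
    rw [samuel_self, samuel_self]
    have h1 : ((Module.length A (A ⧸ b ^ m)).toNat : ℝ) ≤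
        (Module.length A (A ⧸ a ^ (m + r))).toNat := by exact_mod_cast hle2 m
    push_cast
    linarith

end Groth.Agent.Lib.Helper85.HS
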