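import Groth.Agent.Lib.Helper85.HS.Mult

/-!
# Additivity of the normalized leading coefficient on short exact sequences (helper85)
-/

set_option autoImplicit false
set_option linter.style.haveILetI false
universe u

namespace Groth.Agent.Lib.Helper85.HS

open Module Filter Topology Pointwise

section general

variable {A : Type u} [CommRing A] {N₁ N₂ N₃ : Type u} [AddCommGroup N₁] [Module A N₁]
  [AddCommGroup N₂] [Module A N₂] [AddCommGroup N₃] [Module A N₃]

/-- `0 → N₁/f⁻¹P → N₂/P → N₃/gP → 0` on lengths -/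
theorem length_quotient_eq_add_of_exact (f : N₁ →ₗ[A] N₂) (g : N₂ →ₗ[A] N₃)
    (hg : Function.Surjective g) (hfg : Function.Exact f g) (P : Submodule A N₂) :
    Module.length A (N₂ ⧸ P) =
      Module.length A (N₁ ⧸ Submodule.comap f P) + Module.length A (N₃ ⧸ Submodule.map g P) := by
  set F : N₁ →ₗ[A] N₂ ⧸ P := P.mkQ ∘ₗ f with hF
  set G : (N₂ ⧸ P) →ₗ[A] (N₃ ⧸ Submodule.map g P) :=
    Submodule.mapQ P (Submodule.map g P) g (Submodule.le_comap_map _ _) with hG
  have hexact : Function.Exact (LinearMap.range F).subtype G := by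
    rw [LinearMap.exact_iff, Submodule.range_subtype, hG, Submodule.ker_mapQ,
      Submodule.comap_map_eq, Submodule.map_sup, Submodule.mkQ_map_self,
      bot_sup_eq, hF, LinearMap.range_comp, LinearMap.exact_iff.mp hfg]
  have hGsurj : Function.Surjective G := by
    rw [← LinearMap.range_eq_top, hG, Submodule.range_mapQ, LinearMap.range_eq_top.mpr hg,
      Submodule.map_top, Submodule.range_mkQ]
  rw [Module.length_eq_add_of_exact _ G (LinearMap.range F).injective_subtype hGsurj hexact]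
  congr 1
  have hker : LinearMap.ker F = Submodule.comap f P := by
    rw [hF, LinearMap.ker_comp, Submodule.ker_mkQ]
  exact ((Submodule.quotEquivOfEq _ _ hker.symm).trans F.quotKerEquivRange).length_eq.symm

end general

section samuel

variable {A : Type u} [CommRing A] [IsNoetherianRing A] (I : Ideal A) [IsArtinianRing (A ⧸ I)]
  {N₁ N₂ N₃ : Type u} [AddCommGroup N₁] [Module A N₁] [Module.Finite A N₁]
  [AddCommGroup N₂] [Module A N₂] [Module.Finite A N₂] [AddCommGroup N₃] [Module A N₃]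
  [Module.Finite A N₃]

/-- Samuel functions along a short exact sequence -/
theorem samuel_exact_bounds (f : N₁ →ₗ[A] N₂) (g : N₂ →ₗ[A] N₃) (hf : Function.Injective f)
    (hg : Function.Surjective g) (hfg : Function.Exact f g) :
    ∃ c : ℕ, ∀ t : ℕ, c ≤ t →
      samuel I N₁ (t - c) + samuel I N₃ t ≤ samuel I N₂ t ∧
        samuel I N₂ t ≤ samuel I N₁ t + samuel I N₃ t := by
  obtain ⟨c, hc⟩ := exists_comap_pow_le I f hf
  refine ⟨c, fun t ht => ?_⟩
  have hlen := length_quotient_eq_add_of_exact f g hg hfg (I ^ t • (⊤ : Submodule A N₂))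
  have hmap : Submodule.map g (I ^ t • (⊤ : Submodule A N₂)) = I ^ t • (⊤ : Submodule A N₃) := by
    rw [Submodule.map_smul'', Submodule.map_top, LinearMap.range_eq_top.mpr hg]
  rw [hmap] at hlen
  have h2 := Module.length_ne_top_iff.mpr (isFiniteLength_quotient_pow I N₂ t)
  have h3 := Module.length_ne_top_iff.mpr (isFiniteLength_quotient_pow I N₃ t)
  have h1 : Module.length A (N₁ ⧸ Submodule.comap f (I ^ t • (⊤ : Submodule A N₂))) ≠ ⊤ := by
    intro htop
    rw [htop, top_add] at hlen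
    exact h2 hlen
  have hnat := congrArg ENat.toNat hlen
  rw [ENat.toNat_add h1 h3] at hnat
  have hmid : samuel I N₂ t =
      ((Module.length A (N₁ ⧸ Submodule.comap f (I ^ t • (⊤ : Submodule A N₂)))).toNat : ℤ) +
        samuel I N₃ t := by
    unfold samuel
    exact_mod_cast hnat
  -- comparison of the middle term with the Samuel function of `N₁`
  have hle1 : I ^ t • (⊤ : Submodule A N₁) ≤
      Submodule.comap f (I ^ t • (⊤ : Submodule A N₂)) := by
    rw [← Submodule.map_le_iff_le_comap, Submodule.map_smul'']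
    exact Submodule.smul_mono le_rfl le_top
  have hle2 : Submodule.comap f (I ^ t • (⊤ : Submodule A N₂)) ≤
      I ^ (t - c) • (⊤ : Submodule A N₁) := by
    have := hc (t - c)
    rwa [Nat.sub_add_cancel ht] at this
  have hup : ((Module.length A (N₁ ⧸ Submodule.comap f (I ^ t • (⊤ : Submodule A N₂)))).toNat : ℤ)
      ≤ samuel I N₁ t := by
    have h4 := length_quotient_le_of_le _ _ hle1
    have h5 := Module.length_ne_top_iff.mpr (isFiniteLength_quotient_pow I N₁ t)
    unfold samuel
    exact_mod_cast ENat.toNat_le_toNat h4 h5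
  have hlow : samuel I N₁ (t - c) ≤
      ((Module.length A (N₁ ⧸ Submodule.comap f (I ^ t • (⊤ : Submodule A N₂)))).toNat : ℤ) := by
    have h4 := length_quotient_le_of_le _ _ hle2
    unfold samuel
    exact_mod_cast ENat.toNat_le_toNat h4 h1
  constructor <;> linarith

/-- additivity of the normalized limit in degree `d` -/
theorem tendsto_samuel_of_exact (d : ℕ) (f : N₁ →ₗ[A] N₂) (g : N₂ →ₗ[A] N₃)
    (hf : Function.Injective f) (hg : Function.Surjective g) (hfg : Function.Exact f g)
    (hev : EvBinom (d + 1) (samuel I N₁)) (L₁ L₃ : ℝ)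
    (h₁ : Tendsto (fun t : ℕ => (d.factorial : ℝ) * (samuel I N₁ t : ℝ) / (t : ℝ) ^ d) atTop (𝓝 L₁))
    (h₃ : Tendsto (fun t : ℕ => (d.factorial : ℝ) * (samuel I N₃ t : ℝ) / (t : ℝ) ^ d) atTop (𝓝 L₃)) :
    Tendsto (fun t : ℕ => (d.factorial : ℝ) * (samuel I N₂ t : ℝ) / (t : ℝ) ^ d) atTop
      (𝓝 (L₁ + L₃)) := by
  obtain ⟨c, hc⟩ := samuel_exact_bounds I f g hf hg hfg
  have hdiff : EvBinom d (fun t => samuel I N₁ t - samuel I N₁ (t - c)) := hev.sub_unshift c
  have hz := (hdiff.tendsto_div_pow_zero).const_mul (d.factorial : ℝ)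
  rw [mul_zero] at hz
  -- lower and upper bounds
  have hupper := h₁.add h₃
  have hlower : Tendsto (fun t : ℕ => ((d.factorial : ℝ) * (samuel I N₁ t : ℝ) / (t : ℝ) ^ d +
      (d.factorial : ℝ) * (samuel I N₃ t : ℝ) / (t : ℝ) ^ d) -
      (d.factorial : ℝ) * (((samuel I N₁ t - samuel I N₁ (t - c) : ℤ) : ℝ) / (t : ℝ) ^ d))
      atTop (𝓝 (L₁ + L₃ - 0)) := hupper.sub hz
  rw [sub_zero] at hlower
  refine tendsto_of_tendsto_of_tendsto_of_le_of_le' hlower hupper ?_ ?_
  · filter_upwards [eventually_ge_atTop c] with t ht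
    have hb := (hc t ht).1
    have hpos : (0 : ℝ) ≤ (t : ℝ) ^ d := by positivity
    have hfac : (0 : ℝ) ≤ (d.factorial : ℝ) := by positivity
    have hb' : (samuel I N₁ (t - c) : ℝ) + (samuel I N₃ t : ℝ) ≤ (samuel I N₂ t : ℝ) := by
      exact_mod_cast hb
    have : (d.factorial : ℝ) * (samuel I N₁ t : ℝ) / (t : ℝ) ^ d +
        (d.factorial : ℝ) * (samuel I N₃ t : ℝ) / (t : ℝ) ^ d -
        (d.factorial : ℝ) * (((samuel I N₁ t - samuel I N₁ (t - c) : ℤ) : ℝ) / (t : ℝ) ^ d) =
        (d.factorial : ℝ) * ((samuel I N₁ (t - c) : ℝ) + (samuel I N₃ t : ℝ)) / (t : ℝ) ^ d := by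
      push_cast
      ring
    rw [this]
    exact div_le_div_of_nonneg_right (mul_le_mul_of_nonneg_left hb' hfac) hpos
  · filter_upwards [eventually_ge_atTop c] with t ht
    have hb := (hc t ht).2
    have hpos : (0 : ℝ) ≤ (t : ℝ) ^ d := by positivity
    have hfac : (0 : ℝ) ≤ (d.factorial : ℝ) := by positivity
    have hb' : (samuel I N₂ t : ℝ) ≤ (samuel I N₁ t : ℝ) + (samuel I N₃ t : ℝ) := by
      exact_mod_cast hb
    have : (d.factorial : ℝ) * (samuel I N₁ t : ℝ) / (t : ℝ) ^ d +
        (d.factorial : ℝ) * (samuel I N₃ t : ℝ) / (t : ℝ) ^ d =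
        (d.factorial : ℝ) * ((samuel I N₁ t : ℝ) + (samuel I N₃ t : ℝ)) / (t : ℝ) ^ d := by
      ring
    rw [this]
    exact div_le_div_of_nonneg_right (mul_le_mul_of_nonneg_left hb' hfac) hpos

end samuel

end Groth.Agent.Lib.Helper85.HS
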