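import Groth.Agent.Lib.Helper85.HS.Mult

/-!
# The top coefficient of an eventually binomial function; `e(I, N) ≤ ℓ(N/(x)N)` (helper85)
-/

set_option autoImplicit false
set_option linter.style.haveILetI false
universe u

namespace Groth.Agent.Lib.Helper85.HS

open Module Filter Topology Pointwise

/-- `f = a * B k + (lower order)` eventually -/
def HasTop (k : ℕ) (f : ℕ → ℤ) (a : ℤ) : Prop :=
  ∃ h : ℕ → ℤ, EvBinom k h ∧ ∃ N : ℕ, ∀ i, N ≤ i → f i = a * B k i + h i

namespace HasTop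

variable {k : ℕ} {f g : ℕ → ℤ} {a b : ℤ}

theorem tendsto (hf : HasTop k f a) :
    Tendsto (fun n : ℕ => (k.factorial : ℝ) * (f n : ℝ) / (n : ℝ) ^ k) atTop (𝓝 (a : ℝ)) := by
  obtain ⟨h, hh, N, hfa⟩ := hf
  exact EvBinom.tendsto_of_top a hh N hfa

theorem B_shift_sub (k : ℕ) : EvBinom k (fun i => B k (i + 1) - B k i) :=
  (EvBinom.basicB (Nat.lt_succ_self k)).diff

theorem shift (hf : HasTop k f a) : HasTop k (fun i => f (i + 1)) a := by
  obtain ⟨h, hh, N, hfa⟩ := hf
  refine ⟨fun i => a * (B k (i + 1) - B k i) + h (i + 1),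
    ((B_shift_sub k).smul a).add hh.shift, N, fun i hi => ?_⟩
  beta_reduce
  rw [hfa (i + 1) (le_trans hi (Nat.le_succ i))]
  ring

theorem diff (hf : HasTop (k + 1) f a) : HasTop k (fun i => f (i + 1) - f i) a := by
  obtain ⟨h, hh, N, hfa⟩ := hf
  refine ⟨fun i => a * (B k (i + 1) - B k i) + (h (i + 1) - h i),
    ((B_shift_sub k).smul a).add hh.diff, N, fun i hi => ?_⟩
  beta_reduce
  rw [hfa (i + 1) (le_trans hi (Nat.le_succ i)), hfa i hi, B_succ_succ]
  ring

theorem le_of_le (hf : HasTop k f a) (hg : HasTop k g b) (N : ℕ) (h : ∀ i, N ≤ i → f i ≤ g i) :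
    a ≤ b := by
  have h1 := hf.tendsto
  have h2 := hg.tendsto
  have h3 : (a : ℝ) ≤ (b : ℝ) := by
    refine le_of_tendsto_of_tendsto h1 h2 ?_
    filter_upwards [eventually_ge_atTop N] with n hn
    have hfg : (f n : ℝ) ≤ (g n : ℝ) := by exact_mod_cast h n hn
    have hpos : (0 : ℝ) ≤ (n : ℝ) ^ k := by positivity
    have hfac : (0 : ℝ) ≤ (k.factorial : ℝ) := by positivity
    exact div_le_div_of_nonneg_right (mul_le_mul_of_nonneg_left hfg hfac) hpos
  exact_mod_cast h3

theorem unique (hf : HasTop k f a) (hf' : HasTop k f b) : a = b :=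
  le_antisymm (hf.le_of_le hf' 0 fun _ _ => le_rfl) (hf'.le_of_le hf 0 fun _ _ => le_rfl)

end HasTop

theorem EvBinom.exists_hasTop {k : ℕ} {f : ℕ → ℤ} (hf : EvBinom (k + 1) f) : ∃ a, HasTop k f a := by
  obtain ⟨a, h, hh, N, hfa⟩ := hf.exists_top
  exact ⟨a, h, hh, N, hfa⟩

section samuel

variable {A : Type u} [CommRing A] [IsNoetherianRing A] (I : Ideal A) [IsArtinianRing (A ⧸ I)]

/-- `e(I, N) ≤ ℓ(N/(x)N)` for `x₁, …, x_k ∈ I` -/
theorem top_le_length_quotient :
    ∀ (k : ℕ) (N : Type u) [AddCommGroup N] [Module A N] [Module.Finite A N] (x : Fin k → A),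
      (∀ i, x i ∈ I) →
      IsFiniteLength A (N ⧸ (Ideal.span (Set.range x) • (⊤ : Submodule A N))) →
      ∀ a : ℤ, HasTop k (samuel I N) a →
      a ≤ ((Module.length A (N ⧸ (Ideal.span (Set.range x) • (⊤ : Submodule A N)))).toNat : ℤ) := by
  intro k
  induction k with
  | zero =>
    intro N _ _ _ x _ hfl a ha
    have h0 : Ideal.span (Set.range x) • (⊤ : Submodule A N) = ⊥ := by
      have : Set.range x = ∅ := Set.range_eq_empty x
      rw [this, Ideal.span_empty, Submodule.bot_smul]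
    have hN : IsFiniteLength A N := (Submodule.quotEquivOfEqBot _ h0).isFiniteLength hfl
    have hN' := Module.length_ne_top_iff.mpr hN
    rw [(Submodule.quotEquivOfEqBot _ h0).length_eq]
    obtain ⟨h, ⟨c, N₁, hc⟩, N₂, hfa⟩ := ha
    have h1 := hfa (max N₁ N₂) (le_max_right _ _)
    have h2 := hc (max N₁ N₂) (le_max_left _ _)
    rw [Finset.range_zero, Finset.sum_empty] at h2
    rw [h2, B_zero, mul_one, add_zero] at h1
    rw [← h1]
    unfold samuel
    have hle : Module.length A (N ⧸ I ^ (max N₁ N₂) • (⊤ : Submodule A N)) ≤ Module.length A N :=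
      Module.length_le_of_surjective _ (Submodule.mkQ_surjective _)
    exact_mod_cast ENat.toNat_le_toNat hle hN'
  | succ k ih =>
    intro N _ _ _ x hx hfl a ha
    have e := quotConsEquiv (M := N) (x 0) (Fin.tail x)
    rw [Fin.cons_self_tail] at e
    have hflQ : IsFiniteLength A (QuotSMulTop (x 0) N ⧸
        (Ideal.span (Set.range (Fin.tail x)) • (⊤ : Submodule A (QuotSMulTop (x 0) N)))) :=
      e.symm.isFiniteLength hfl
    have hQ : EvBinom (k + 1) (samuel I (QuotSMulTop (x 0) N)) :=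
      evBinom_of_isFiniteLength_quotient I k (QuotSMulTop (x 0) N) (Fin.tail x)
        (fun i => hx i.succ) hflQ
    obtain ⟨b, hb⟩ := hQ.exists_hasTop
    have h1 := ih (QuotSMulTop (x 0) N) (Fin.tail x) (fun i => hx i.succ) hflQ b hb
    rw [e.length_eq] at h1
    have h2 : a ≤ b := ha.diff.le_of_le hb.shift 0 fun i _ => samuel_succ_sub_le I (x 0) (hx 0) i
    exact h2.trans h1

end samuel

end Groth.Agent.Lib.Helper85.HS
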