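import Groth.Agent.Lib.Helper85.HS.GenCount
import Groth.Agent.Lib.Helper85.HS.TopCoeff

/-!
# Multiplicity and a regular element: `e(x₁, x'; M) = e(x'; M/x₁M)` (helper85)
-/

set_option autoImplicit false
set_option linter.style.haveILetI false
universe u

namespace Groth.Agent.Lib.Helper85.HS

open Module Pointwise

namespace HasTop

variable {k : ℕ} {f : ℕ → ℤ} {a : ℤ}

theorem shift_iter (hf : HasTop k f a) (c : ℕ) : HasTop k (fun i => f (i + c)) a := by
  induction c with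
  | zero => simpa using hf
  | succ c ih =>
    obtain ⟨h, hh, N, hN⟩ := ih.shift
    refine ⟨h, hh, N, fun i hi => ?_⟩
    rw [← hN i hi]
    show f (i + (c + 1)) = f (i + 1 + c)
    congr 1
    omega

theorem sub_evBinom (hf : HasTop k f a) {g : ℕ → ℤ} (hg : EvBinom k g) :
    HasTop k (fun i => f i - g i) a := by
  obtain ⟨h, hh, N, hN⟩ := hf
  refine ⟨fun i => h i - g i, hh.sub hg, N, fun i hi => ?_⟩
  beta_reduce
  rw [hN i hi]
  ring

end HasTop

theorem evBinom_monoCount (s : ℕ) : EvBinom s (fun n => (monoCount s n : ℤ)) := by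
  cases s with
  | zero =>
    refine (EvBinom.zero 0).congr 1 fun i hi => ?_
    obtain ⟨j, rfl⟩ : ∃ j, i = j + 1 := ⟨i - 1, by omega⟩
    simp [monoCount_zero_succ]
  | succ s =>
    refine (EvBinom.basicB (Nat.lt_succ_self s)).congr 0 fun i _ => ?_
    rw [monoCount_succ_eq_choose]
    rfl

section ideals

variable {A : Type u} [CommRing A]

theorem sup_pow_succ_le_mul_sup_pow (J K : Ideal A) (n : ℕ) :
    (J ⊔ K) ^ (n + 1) ≤ J * (J ⊔ K) ^ n ⊔ K ^ (n + 1) := by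
  induction n with
  | zero => simp
  | succ n ih =>
    rw [pow_succ' (J ⊔ K) (n + 1), Ideal.sup_mul]
    apply sup_le le_sup_left
    calc K * (J ⊔ K) ^ (n + 1) ≤ K * (J * (J ⊔ K) ^ n ⊔ K ^ (n + 1)) := Ideal.mul_mono le_rfl ih
      _ = K * (J * (J ⊔ K) ^ n) ⊔ K * K ^ (n + 1) := Ideal.mul_sup _ _ _
      _ ≤ J * (J ⊔ K) ^ (n + 1) ⊔ K ^ (n + 1 + 1) := by
        apply sup_le_sup
        · calc K * (J * (J ⊔ K) ^ n) = J * (K * (J ⊔ K) ^ n) := by ring
            _ ≤ J * ((J ⊔ K) * (J ⊔ K) ^ n) :=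
              Ideal.mul_mono le_rfl (Ideal.mul_mono le_sup_right le_rfl)
            _ = J * (J ⊔ K) ^ (n + 1) := by rw [← pow_succ']
        · exact le_of_eq (by ring)

variable {M : Type u} [AddCommGroup M] [Module A M]

/-- `(𝔦ⁿ⁺¹M : x₁) ⊆ 𝔦ⁿM + (𝔦'ⁿ⁺¹M : x₁)` for `𝔦 = (x₁) + 𝔦'` -/
theorem comap_lsmul_pow_succ_le (x₁ : A) (𝔦' : Ideal A) (n : ℕ) :
    Submodule.comap (LinearMap.lsmul A M x₁)
        ((Ideal.span {x₁} ⊔ 𝔦') ^ (n + 1) • (⊤ : Submodule A M)) ≤
      (Ideal.span {x₁} ⊔ 𝔦') ^ n • (⊤ : Submodule A M) ⊔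
        Submodule.comap (LinearMap.lsmul A M x₁) (𝔦' ^ (n + 1) • (⊤ : Submodule A M)) := by
  intro m hm
  rw [Submodule.mem_comap] at hm
  have h1 : (Ideal.span {x₁} ⊔ 𝔦') ^ (n + 1) • (⊤ : Submodule A M) ≤
      x₁ • ((Ideal.span {x₁} ⊔ 𝔦') ^ n • (⊤ : Submodule A M)) ⊔
        𝔦' ^ (n + 1) • (⊤ : Submodule A M) := by
    refine (Submodule.smul_mono (sup_pow_succ_le_mul_sup_pow _ _ n) le_rfl).trans ?_
    rw [Submodule.sup_smul, mul_smul, Submodule.ideal_span_singleton_smul]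
  obtain ⟨u', hu', v, hv, huv⟩ := Submodule.mem_sup.mp (h1 hm)
  obtain ⟨u, hu, rfl⟩ := (Submodule.mem_smul_pointwise_iff_exists _ _ _).mp hu'
  refine Submodule.mem_sup.mpr ⟨u, hu, m - u, ?_, by abel⟩
  rw [Submodule.mem_comap, map_sub]
  have : (LinearMap.lsmul A M x₁) m - (LinearMap.lsmul A M x₁) u = v := by
    rw [← huv]
    simp
  rw [this]
  exact hv

end ideals

section main

variable {A : Type u} [CommRing A] {M : Type u} [AddCommGroup M] [Module A M]

/-- `ℓ(M/Q) ≤ ℓ(M/(Q + N)) + ℓ(N/LN)` when `L N ⊆ Q` -/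
theorem length_quotient_le_sup_add_qlen (Q N : Submodule A M) (L : Ideal A) (h : L • N ≤ Q) :
    Module.length A (M ⧸ Q) ≤ Module.length A (M ⧸ (Q ⊔ N)) + qlen L N := by
  rw [length_quotient_of_le M Q (Q ⊔ N) le_sup_left, add_comm]
  gcongr
  set φ : ↥N →ₗ[A] M ⧸ Q := Q.mkQ ∘ₗ N.subtype with hφ
  have hker : L • (⊤ : Submodule A ↥N) ≤ LinearMap.ker φ := by
    rw [Submodule.smul_le]
    intro a ha n _
    rw [LinearMap.mem_ker, hφ, LinearMap.comp_apply, Submodule.mkQ_apply,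
      Submodule.Quotient.mk_eq_zero]
    exact h (Submodule.smul_mem_smul ha n.2)
  have hrange : LinearMap.range (Q.mkQ ∘ₗ (Q ⊔ N).subtype) =
      LinearMap.range (Submodule.liftQ _ φ hker) := by
    rw [Submodule.range_liftQ, hφ, LinearMap.range_comp, LinearMap.range_comp,
      Submodule.range_subtype, Submodule.range_subtype, Submodule.map_sup, Submodule.mkQ_map_self,
      bot_sup_eq]
  rw [hrange]
  unfold qlen
  exact Module.length_le_of_surjective (Submodule.liftQ _ φ hker).rangeRestrict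
    (LinearMap.surjective_rangeRestrict _)

theorem qlen_top_le (L : Ideal A) :
    qlen L (⊤ : Submodule A M) ≤ Module.length A (M ⧸ L • (⊤ : Submodule A M)) := by
  unfold qlen
  exact length_quotient_smul_le_of_surjective L
    (Submodule.topEquiv (R := A) (M := M)).symm.toLinearMap
    (Submodule.topEquiv (R := A) (M := M)).symm.surjective

variable [IsNoetherianRing A] [Module.Finite A M]

/-- the lower bound for the difference of the Samuel function -/
theorem samuel_lower_bound (x₁ : A) (𝔦' : Ideal A)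
    [IsArtinianRing (A ⧸ (Ideal.span {x₁} ⊔ 𝔦'))] (hreg : IsSMulRegular M x₁) (s : ℕ)
    (y : Fin s → A)
    (hy : ∀ n : ℕ, 𝔦' ^ n • (⊤ : Submodule A M) =
      Ideal.span (Set.range y) ^ n • (⊤ : Submodule A M)) :
    ∃ c K : ℕ, ∀ n : ℕ,
      samuel (Ideal.span {x₁} ⊔ 𝔦') M (n + c) +
          samuel (Ideal.span {x₁} ⊔ 𝔦') (QuotSMulTop x₁ M) (n + c + 1) -
          (K : ℤ) * (monoCount s (n + 1) : ℤ) ≤
        samuel (Ideal.span {x₁} ⊔ 𝔦') M (n + c + 1) := by
  set 𝔦 := Ideal.span {x₁} ⊔ 𝔦' with h𝔦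
  obtain ⟨c, hc⟩ := exists_comap_pow_le 𝔦' (LinearMap.lsmul A M x₁) hreg
  refine ⟨c, (samuel 𝔦 M c).toNat, fun n => ?_⟩
  set Q : Submodule A M := 𝔦 ^ (n + c) • (⊤ : Submodule A M) with hQ
  set N : Submodule A M := 𝔦' ^ (n + 1) • (⊤ : Submodule A M) with hN
  set L : Ideal A := 𝔦 ^ c with hL
  have hLN : L • N ≤ Q := by
    rw [hL, hN, hQ, ← mul_smul]
    refine Submodule.smul_mono ?_ le_rfl
    calc 𝔦 ^ c * 𝔦' ^ (n + 1) ≤ 𝔦 ^ c * 𝔦 ^ (n + 1) :=
          Ideal.mul_mono le_rfl (Ideal.pow_right_mono le_sup_right _)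
      _ = 𝔦 ^ (n + c + 1) := by rw [← pow_add]; congr 1; omega
      _ ≤ 𝔦 ^ (n + c) := Ideal.pow_le_pow_right (Nat.le_succ _)
  have hcomap : Submodule.comap (LinearMap.lsmul A M x₁)
      (𝔦 ^ (n + c + 1) • (⊤ : Submodule A M)) ≤ Q ⊔ N := by
    refine (comap_lsmul_pow_succ_le x₁ 𝔦' (n + c)).trans (sup_le_sup le_rfl ?_)
    have := hc (n + 1)
    have hidx : n + 1 + c = n + c + 1 := by omega
    rwa [hidx] at this
  -- lengths
  have h1 := length_quotient_le_of_le _ _ hcomap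
  have h2 := length_quotient_le_sup_add_qlen Q N L hLN
  have h3 : qlen L N ≤ (monoCount s (n + 1) : ℕ∞) *
      Module.length A (M ⧸ L • (⊤ : Submodule A M)) := by
    have h4 := qlen_pow_smul_le L s y (⊤ : Submodule A M) (n + 1)
    rw [← hy (n + 1), ← hN] at h4
    exact h4.trans (by gcongr; exact qlen_top_le L)
  have hQfin := Module.length_ne_top_iff.mpr (isFiniteLength_quotient_pow 𝔦 M (n + c))
  have hLfin := Module.length_ne_top_iff.mpr (isFiniteLength_quotient_pow 𝔦 M c)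
  have hcfin : Module.length A (M ⧸ Submodule.comap (LinearMap.lsmul A M x₁)
      (𝔦 ^ (n + c + 1) • (⊤ : Submodule A M))) ≠ ⊤ := by
    have h4 := length_quotient_comap_le (LinearMap.lsmul A M x₁)
      (𝔦 ^ (n + c + 1) • (⊤ : Submodule A M))
    have h5 := Module.length_ne_top_iff.mpr (isFiniteLength_quotient_pow 𝔦 M (n + c + 1))
    exact ne_top_of_le_ne_top h5 h4
  -- combine in `ℕ∞`
  have hcomb : Module.length A (M ⧸ Q) ≤
      Module.length A (M ⧸ Submodule.comap (LinearMap.lsmul A M x₁)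
        (𝔦 ^ (n + c + 1) • (⊤ : Submodule A M))) +
      (monoCount s (n + 1) : ℕ∞) * Module.length A (M ⧸ L • (⊤ : Submodule A M)) :=
    h2.trans (add_le_add h1 h3)
  rw [length_eq_samuel, hL, length_eq_samuel] at hcomb
  have key := samuel_eq_add 𝔦 (N := M) x₁ (n + c + 1)
  generalize Module.length A (M ⧸ Submodule.comap (LinearMap.lsmul A M x₁)
      (𝔦 ^ (n + c + 1) • (⊤ : Submodule A M))) = z at hcomb hcfin key
  obtain ⟨z', rfl⟩ := ENat.ne_top_iff_exists.mp hcfin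
  have hcomb' : (samuel 𝔦 M (n + c)).toNat ≤ z' + monoCount s (n + 1) * (samuel 𝔦 M c).toNat := by
    exact_mod_cast hcomb
  have hnn1 := samuel_nonneg (N := M) 𝔦 (n + c)
  have hnn2 := samuel_nonneg (N := M) 𝔦 c
  rw [ENat.toNat_natCast] at key
  have h5 : samuel 𝔦 M (n + c) ≤ (z' : ℤ) + (monoCount s (n + 1) : ℤ) * samuel 𝔦 M c := by
    have : ((samuel 𝔦 M (n + c)).toNat : ℤ) ≤
        (z' : ℤ) + (monoCount s (n + 1) : ℤ) * ((samuel 𝔦 M c).toNat : ℤ) := by
      exact_mod_cast hcomb'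
    rwa [Int.toNat_of_nonneg hnn1, Int.toNat_of_nonneg hnn2] at this
  rw [Int.toNat_of_nonneg hnn2, key]
  linarith

/-- **(S-v)** the multiplicity does not change when dividing by a regular element which is part
of the generators -/
theorem top_eq_of_regular (x₁ : A) (𝔦' : Ideal A)
    [IsArtinianRing (A ⧸ (Ideal.span {x₁} ⊔ 𝔦'))] (hreg : IsSMulRegular M x₁) (s : ℕ)
    (y : Fin s → A)
    (hy : ∀ n : ℕ, 𝔦' ^ n • (⊤ : Submodule A M) =
      Ideal.span (Set.range y) ^ n • (⊤ : Submodule A M))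
    (a a' : ℤ) (ha : HasTop (s + 1) (samuel (Ideal.span {x₁} ⊔ 𝔦') M) a)
    (ha' : HasTop s (samuel (Ideal.span {x₁} ⊔ 𝔦') (QuotSMulTop x₁ M)) a') : a = a' := by
  apply le_antisymm
  · exact ha.diff.le_of_le ha'.shift 0 fun i _ =>
      samuel_succ_sub_le _ x₁ (le_sup_left (a := Ideal.span {x₁})
        (Ideal.subset_span (Set.mem_singleton x₁))) i
  · obtain ⟨c, K, hcK⟩ := samuel_lower_bound x₁ 𝔦' hreg s y hy
    have h1 : HasTop s (fun n => samuel (Ideal.span {x₁} ⊔ 𝔦') M (n + c + 1) -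
        samuel (Ideal.span {x₁} ⊔ 𝔦') M (n + c)) a := ha.diff.shift_iter c
    have h2 : HasTop s (fun n => samuel (Ideal.span {x₁} ⊔ 𝔦') (QuotSMulTop x₁ M) (n + (c + 1)) -
        (K : ℤ) * (monoCount s (n + 1) : ℤ)) a' :=
      (ha'.shift_iter (c + 1)).sub_evBinom (((evBinom_monoCount s).shift).smul (K : ℤ))
    refine h2.le_of_le h1 0 fun n _ => ?_
    have := hcK n
    have hidx : n + (c + 1) = n + c + 1 := by omega
    rw [hidx]
    linarith

end main

end Groth.Agent.Lib.Helper85.HS
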