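import Groth.Agent.Lib.Helper85.HS.FiniteLength

/-!
# Lengths of localizations at minimal primes of the support (helper85)
-/

set_option autoImplicit false
set_option linter.style.haveILetI false
universe u

namespace Groth.Agent.Lib.Helper85.HS

open Module

variable {A : Type u} [CommRing A]

/-- `q < p` primes: `dim A/p + 1 ≤ dim A/q` -/
theorem ringKrullDim_quotient_succ_le_of_lt (q p : Ideal A) [q.IsPrime] [p.IsPrime] (h : q < p) :
    ringKrullDim (A ⧸ p) + 1 ≤ ringKrullDim (A ⧸ q) := by
  obtain ⟨x, hxp, hxq⟩ := SetLike.exists_of_lt h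
  refine ringKrullDim_succ_le_of_surjective (Ideal.Quotient.factor h.le)
    (Ideal.Quotient.factor_surjective h.le) (r := Ideal.Quotient.mk q x) ?_ ?_
  · apply mem_nonZeroDivisors_of_ne_zero
    rwa [Ne, Ideal.Quotient.eq_zero_iff_mem]
  · rw [Ideal.Quotient.factor_mk, Ideal.Quotient.eq_zero_iff_mem]
    exact hxp

variable (N : Type u) [AddCommGroup N] [Module A N] [Module.Finite A N]

omit [Module.Finite A N] in
/-- `dim A/q ≤ dim N` for `q` in the support -/
theorem ringKrullDim_quotient_le_supportDim (q : PrimeSpectrum A) (hq : q ∈ support A N) :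
    ringKrullDim (A ⧸ q.asIdeal) ≤ supportDim A N := by
  rw [ringKrullDim_quotient, supportDim]
  have hsub : ∀ x : PrimeSpectrum.zeroLocus (q.asIdeal : Set A), x.1 ∈ support A N := by
    intro x
    have hx : q ≤ x.1 := by
      have := x.2
      rwa [PrimeSpectrum.mem_zeroLocus, SetLike.coe_subset_coe] at this
    exact Module.mem_support_mono hx hq
  exact Order.krullDim_le_of_strictMono
    (fun x : PrimeSpectrum.zeroLocus (q.asIdeal : Set A) => (⟨x.1, hsub x⟩ : support A N))
    (fun _ _ h => h)

/-- (G1) -/
theorem mem_minimalPrimes_of_ringKrullDim_quotient_eq (d : ℕ) (hN : supportDim A N ≤ d)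
    (p : PrimeSpectrum A) (hp : p ∈ support A N) (hpd : ringKrullDim (A ⧸ p.asIdeal) = d) :
    p.asIdeal ∈ (annihilator A N).minimalPrimes := by
  have hann : annihilator A N ≤ p.asIdeal := Module.mem_support_iff_of_finite.mp hp
  obtain ⟨q, hqmin, hqp⟩ := Ideal.exists_minimalPrimes_le hann
  rcases eq_or_lt_of_le hqp with heq | hlt
  · rwa [← heq]
  · exfalso
    haveI : q.IsPrime := hqmin.1.1
    have h1 := ringKrullDim_quotient_succ_le_of_lt q p.asIdeal hlt
    have hqsupp : (⟨q, hqmin.1.1⟩ : PrimeSpectrum A) ∈ support A N :=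
      Module.mem_support_iff_of_finite.mpr hqmin.1.2
    have h2 := ringKrullDim_quotient_le_supportDim N ⟨q, hqmin.1.1⟩ hqsupp
    have h3 : ((d : WithBot ℕ∞) + 1) ≤ d := by
      rw [hpd] at h1
      exact h1.trans (h2.trans hN)
    have h4 : d + 1 ≤ d := by exact_mod_cast h3
    omega

variable [IsNoetherianRing A]

/-- (G2) -/
theorem isFiniteLength_localizedModule_of_mem_minimalPrimes (p : Ideal A) [p.IsPrime]
    (hmin : p ∈ (annihilator A N).minimalPrimes) :
    IsFiniteLength (Localization.AtPrime p) (LocalizedModule p.primeCompl N) := by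
  set B := Localization.AtPrime p with hB
  set X := LocalizedModule p.primeCompl N with hX
  haveI : Module.Finite B X := Module.Finite.of_isLocalizedModule p.primeCompl
    (LocalizedModule.mkLinearMap p.primeCompl N)
  apply isFiniteLength_of_supportDim_le_zero X
  have key : ∀ q' : PrimeSpectrum B, q' ∈ support B X →
      q'.asIdeal = IsLocalRing.maximalIdeal B := by
    intro q' hq'
    have hann : annihilator B X ≤ q'.asIdeal := Module.mem_support_iff_of_finite.mp hq'
    set q := q'.asIdeal.comap (algebraMap A B) with hq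
    haveI : q.IsPrime := Ideal.comap_isPrime _ _
    have hannq : annihilator A N ≤ q := by
      intro a ha
      rw [hq, Ideal.mem_comap]
      apply hann
      rw [Module.mem_annihilator]
      intro x
      induction x using LocalizedModule.induction_on with
      | h m s =>
        rw [algebraMap_smul, LocalizedModule.smul'_mk, Module.mem_annihilator.mp ha m,
          LocalizedModule.zero_mk]
    have hqp : q ≤ p := by
      intro x hx
      by_contra hxp
      have hu : IsUnit (algebraMap A B x) :=
        IsLocalization.map_units B (⟨x, hxp⟩ : p.primeCompl)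
      exact q'.2.ne_top (Ideal.eq_top_of_isUnit_mem _ hx hu)
    have hpq : p ≤ q := hmin.2 ⟨inferInstance, hannq⟩ hqp
    have heq : q = p := le_antisymm hqp hpq
    have h1 : Ideal.map (algebraMap A B) q = q'.asIdeal :=
      IsLocalization.map_under p.primeCompl B q'.asIdeal
    rw [← h1, heq, Localization.AtPrime.map_eq_maximalIdeal]
  rw [supportDim, Order.krullDim_nonpos_iff_forall_isMax]
  rintro ⟨q₁, h₁⟩ ⟨q₂, h₂⟩ _
  show q₂.asIdeal ≤ q₁.asIdeal
  rw [key q₁ h₁, key q₂ h₂]

/-- (G5) -/
theorem length_localizedModule_ne_top (d : ℕ) (hN : supportDim A N ≤ d)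
    (p : PrimeSpectrum A) (hpd : ringKrullDim (A ⧸ p.asIdeal) = d) :
    Module.length (Localization.AtPrime p.asIdeal) (LocalizedModule p.asIdeal.primeCompl N) ≠ ⊤ := by
  by_cases hp : p ∈ support A N
  · have hmin := mem_minimalPrimes_of_ringKrullDim_quotient_eq N d hN p hp hpd
    exact Module.length_ne_top_iff.mpr
      (isFiniteLength_localizedModule_of_mem_minimalPrimes N p.asIdeal hmin)
  · rw [Module.notMem_support_iff] at hp
    rw [Module.length_eq_zero_iff.mpr hp]
    exact ENat.zero_ne_top

/-- (G4) -/
theorem finite_setOf_ringKrullDim_quotient_eq_inter_support (d : ℕ) (hN : supportDim A N ≤ d) :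
    {p : PrimeSpectrum A | ringKrullDim (A ⧸ p.asIdeal) = d ∧ p ∈ support A N}.Finite := by
  have hfin := Ideal.finite_minimalPrimes_of_isNoetherianRing A (annihilator A N)
  refine (hfin.preimage (f := fun p : PrimeSpectrum A => p.asIdeal)
    (fun p _ q _ h => PrimeSpectrum.ext h)).subset ?_
  rintro p ⟨hpd, hp⟩
  exact mem_minimalPrimes_of_ringKrullDim_quotient_eq N d hN p hp hpd

end Groth.Agent.Lib.Helper85.HS
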