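import Groth.Agent.Lib.Helper85.HS.Additive
import Groth.Agent.Lib.Helper85.HS.LocLength

/-!
# The associativity formula for multiplicities (helper85)
-/

set_option autoImplicit false
set_option linter.style.haveILetI false
universe u

namespace Groth.Agent.Lib.Helper85.HS

open Module Filter Topology

section simple

variable {A : Type u} [CommRing A]

/-- the localization of `A ⧸ q` at `q` is a simple module -/
theorem length_localizedModule_quotient_self (q : Ideal A) [q.IsPrime] :
    Module.length (Localization.AtPrime q) (LocalizedModule q.primeCompl (A ⧸ q)) = 1 := by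
  set B := Localization.AtPrime q with hB
  set X := LocalizedModule q.primeCompl (A ⧸ q) with hX
  set x₀ : X := LocalizedModule.mk (1 : A ⧸ q) 1 with hx₀def
  set φ : B →ₗ[B] X := LinearMap.toSpanSingleton B X x₀ with hφ
  have hsmul : ∀ a : A, a • (1 : A ⧸ q) = Ideal.Quotient.mk q a := by
    intro a
    rw [Algebra.smul_def, mul_one]
    rfl
  have hsurj : Function.Surjective φ := by
    intro y
    induction y using LocalizedModule.induction_on with
    | h m s =>
      obtain ⟨a, rfl⟩ := Ideal.Quotient.mk_surjective m
      refine ⟨Localization.mk a s, ?_⟩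
      rw [hφ, LinearMap.toSpanSingleton_apply, hx₀def, LocalizedModule.mk_smul_mk, mul_one, hsmul]
  have hx₀ : x₀ ≠ 0 := by
    intro h
    rw [hx₀def, ← LocalizedModule.zero_mk (1 : q.primeCompl), LocalizedModule.mk_eq] at h
    obtain ⟨u, hu⟩ := h
    rw [smul_zero, smul_zero, one_smul, Submonoid.smul_def, hsmul,
      Ideal.Quotient.eq_zero_iff_mem] at hu
    exact u.2 hu
  have hker : LinearMap.ker φ = IsLocalRing.maximalIdeal B := by
    have hne : LinearMap.ker φ ≠ ⊤ := by
      intro htop
      apply hx₀
      have h1 : (1 : B) ∈ LinearMap.ker φ := htop ▸ Submodule.mem_top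
      rwa [LinearMap.mem_ker, hφ, LinearMap.toSpanSingleton_apply, one_smul] at h1
    have hle : IsLocalRing.maximalIdeal B ≤ LinearMap.ker φ := by
      rw [← Localization.AtPrime.map_eq_maximalIdeal, Ideal.map_le_iff_le_comap]
      intro a ha
      rw [Ideal.mem_comap, LinearMap.mem_ker, hφ, LinearMap.toSpanSingleton_apply, algebraMap_smul,
        hx₀def, LocalizedModule.smul'_mk, hsmul, Ideal.Quotient.eq_zero_iff_mem.mpr ha,
        LocalizedModule.zero_mk]
    exact ((IsLocalRing.maximalIdeal.isMaximal B).eq_of_le hne hle).symm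
  rw [Module.length_eq_one_iff, isSimpleModule_iff_quot_maximal]
  refine ⟨IsLocalRing.maximalIdeal B, IsLocalRing.maximalIdeal.isMaximal B, ⟨?_⟩⟩
  exact ((Submodule.quotEquivOfEq _ _ hker.symm).trans (φ.quotKerEquivOfSurjective hsurj)).symm

end simple

section main

variable {A : Type u} [CommRing A]

/-- the length of the localization at `p`, as a real number -/
noncomputable def locLen (N : Type u) [AddCommGroup N] [Module A N] (p : PrimeSpectrum A) : ℝ :=
  ((Module.length (Localization.AtPrime p.asIdeal)
    (LocalizedModule p.asIdeal.primeCompl N)).toNat : ℝ)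

theorem locLen_eq_zero_of_notMem_support (N : Type u) [AddCommGroup N] [Module A N]
    (p : PrimeSpectrum A) (hp : p ∉ support A N) : locLen N p = 0 := by
  rw [Module.notMem_support_iff] at hp
  unfold locLen
  rw [Module.length_eq_zero_iff.mpr hp]
  simp

theorem locLen_congr {N N' : Type u} [AddCommGroup N] [Module A N] [AddCommGroup N'] [Module A N']
    (f : N ≃ₗ[A] N') (p : PrimeSpectrum A) : locLen N p = locLen N' p := by
  unfold locLen
  rw [(IsLocalizedModule.mapEquiv p.asIdeal.primeCompl
    (LocalizedModule.mkLinearMap p.asIdeal.primeCompl N)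
    (LocalizedModule.mkLinearMap p.asIdeal.primeCompl N')
    (Localization.AtPrime p.asIdeal) f).length_eq]

theorem length_localizedModule_of_exact {N₁ N₂ N₃ : Type u} [AddCommGroup N₁] [Module A N₁]
    [AddCommGroup N₂] [Module A N₂] [AddCommGroup N₃] [Module A N₃]
    (f : N₁ →ₗ[A] N₂) (g : N₂ →ₗ[A] N₃) (hf : Function.Injective f) (hg : Function.Surjective g)
    (hfg : Function.Exact f g) (p : PrimeSpectrum A) :
    Module.length (Localization.AtPrime p.asIdeal) (LocalizedModule p.asIdeal.primeCompl N₂) =
      Module.length (Localization.AtPrime p.asIdeal) (LocalizedModule p.asIdeal.primeCompl N₁) +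
      Module.length (Localization.AtPrime p.asIdeal) (LocalizedModule p.asIdeal.primeCompl N₃) := by
  refine Module.length_eq_add_of_exact (LocalizedModule.map p.asIdeal.primeCompl f)
    (LocalizedModule.map p.asIdeal.primeCompl g)
    (LocalizedModule.map_injective _ f hf) (LocalizedModule.map_surjective _ g hg) ?_
  exact LocalizedModule.map_exact p.asIdeal.primeCompl f g hfg

variable [IsNoetherianRing A] (d : ℕ) (e : PrimeSpectrum A → ℝ)

/-- the right hand side of the associativity formula -/
noncomputable def assocSum (N : Type u) [AddCommGroup N] [Module A N] : ℝ :=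
  ∑ᶠ (p : PrimeSpectrum A) (_ : ringKrullDim (A ⧸ p.asIdeal) = d), locLen N p * e p

omit [IsNoetherianRing A] in
open Classical in
theorem assocSum_eq (N : Type u) [AddCommGroup N] [Module A N] :
    assocSum d e N = ∑ᶠ p : PrimeSpectrum A,
      if ringKrullDim (A ⧸ p.asIdeal) = d then locLen N p * e p else 0 :=
  finsum_congr fun _ => finsum_eq_if

open Classical in
theorem finite_support_assocSum (N : Type u) [AddCommGroup N] [Module A N] [Module.Finite A N]
    (hN : supportDim A N ≤ d) :
    (Function.support fun p : PrimeSpectrum A =>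
      if ringKrullDim (A ⧸ p.asIdeal) = d then locLen N p * e p else 0).Finite := by
  refine (finite_setOf_ringKrullDim_quotient_eq_inter_support N d hN).subset ?_
  intro p hp
  rw [Function.mem_support] at hp
  by_cases h1 : ringKrullDim (A ⧸ p.asIdeal) = d
  · refine ⟨h1, ?_⟩
    by_contra h2
    rw [if_pos h1, locLen_eq_zero_of_notMem_support N p h2, zero_mul] at hp
    exact hp rfl
  · rw [if_neg h1] at hp
    exact absurd rfl hp

omit [IsNoetherianRing A] in
theorem assocSum_of_subsingleton (N : Type u) [AddCommGroup N] [Module A N] [Subsingleton N] :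
    assocSum d e N = 0 := by
  classical
  rw [assocSum_eq]
  have : ∀ p : PrimeSpectrum A,
      (if ringKrullDim (A ⧸ p.asIdeal) = d then locLen N p * e p else 0) = 0 := by
    intro p
    have hp : p ∉ support A N := by rw [Module.support_eq_empty]; exact Set.notMem_empty _
    rw [locLen_eq_zero_of_notMem_support N p hp, zero_mul, ite_self]
  simp only [this, finsum_zero]

theorem assocSum_of_exact {N₁ N₂ N₃ : Type u} [AddCommGroup N₁] [Module A N₁] [Module.Finite A N₁]
    [AddCommGroup N₂] [Module A N₂] [Module.Finite A N₂] [AddCommGroup N₃] [Module A N₃]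
    [Module.Finite A N₃]
    (f : N₁ →ₗ[A] N₂) (g : N₂ →ₗ[A] N₃) (hf : Function.Injective f) (hg : Function.Surjective g)
    (hfg : Function.Exact f g) (h₁ : supportDim A N₁ ≤ d) (h₃ : supportDim A N₃ ≤ d) :
    assocSum d e N₂ = assocSum d e N₁ + assocSum d e N₃ := by
  classical
  rw [assocSum_eq, assocSum_eq, assocSum_eq,
    ← finsum_add_distrib (finite_support_assocSum d e N₁ h₁) (finite_support_assocSum d e N₃ h₃)]
  refine finsum_congr fun p => ?_
  by_cases hp : ringKrullDim (A ⧸ p.asIdeal) = d
  · rw [if_pos hp, if_pos hp, if_pos hp, ← add_mul]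
    congr 1
    have hlen := length_localizedModule_of_exact f g hf hg hfg p
    have hn1 := length_localizedModule_ne_top N₁ d h₁ p hp
    have hn3 := length_localizedModule_ne_top N₃ d h₃ p hp
    have hnat := congrArg ENat.toNat hlen
    rw [ENat.toNat_add hn1 hn3] at hnat
    unfold locLen
    exact_mod_cast hnat
  · rw [if_neg hp, if_neg hp, if_neg hp, add_zero]

omit [IsNoetherianRing A] in
/-- the right hand side for `A ⧸ q` -/
theorem assocSum_quotient (q : PrimeSpectrum A) (hq : ringKrullDim (A ⧸ q.asIdeal) ≤ d) :
    assocSum d e (A ⧸ q.asIdeal) = if ringKrullDim (A ⧸ q.asIdeal) = d then e q else 0 := by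
  classical
  rw [assocSum_eq, finsum_eq_single _ q]
  · by_cases h : ringKrullDim (A ⧸ q.asIdeal) = d
    · rw [if_pos h, if_pos h]
      unfold locLen
      rw [length_localizedModule_quotient_self]
      simp
    · rw [if_neg h, if_neg h]
  · intro p hpq
    by_cases h : ringKrullDim (A ⧸ p.asIdeal) = d
    · rw [if_pos h]
      have hp : p ∉ support A (A ⧸ q.asIdeal) := by
        intro hp
        rw [Module.mem_support_iff_of_finite, Ideal.annihilator_quotient] at hp
        rcases eq_or_lt_of_le hp with heq | hlt
        · exact hpq (PrimeSpectrum.ext heq.symm)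
        · have h1 := ringKrullDim_quotient_succ_le_of_lt q.asIdeal p.asIdeal hlt
          rw [h] at h1
          have h2 : ((d : WithBot ℕ∞) + 1) ≤ d := h1.trans hq
          have h3 : d + 1 ≤ d := by exact_mod_cast h2
          omega
      rw [locLen_eq_zero_of_notMem_support _ p hp, zero_mul]
    · rw [if_neg h]

theorem samuel_congr (I : Ideal A) [IsArtinianRing (A ⧸ I)] {N N' : Type u} [AddCommGroup N]
    [Module A N] [Module.Finite A N] [AddCommGroup N'] [Module A N'] [Module.Finite A N']
    (f : N ≃ₗ[A] N') (t : ℕ) : samuel I N t = samuel I N' t :=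
  le_antisymm (samuel_le_of_surjective I f.symm.toLinearMap f.symm.surjective t)
    (samuel_le_of_surjective I f.toLinearMap f.surjective t)

theorem exists_nat_eq_of_le_of_ne_bot {x : WithBot ℕ∞} {d : ℕ} (h : x ≤ d) (h0 : x ≠ ⊥) :
    ∃ k : ℕ, x = k ∧ k ≤ d := by
  obtain ⟨y, rfl⟩ := WithBot.ne_bot_iff_exists.mp h0
  have hy : y ≤ (d : ℕ∞) := by exact_mod_cast h
  have hytop : y ≠ ⊤ := ne_top_of_le_ne_top (ENat.natCast_ne_top d) hy
  obtain ⟨k, rfl⟩ := ENat.ne_top_iff_exists.mp hytop
  exact ⟨k, rfl, by exact_mod_cast hy⟩

/-- **The associativity formula**, in limit form -/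
theorem tendsto_samuel_assocSum (I : Ideal A)
    (hJ : ∀ p : Ideal A, p.IsPrime → I ≤ p → p.IsMaximal) [IsArtinianRing (A ⧸ I)]
    (he : ∀ p : PrimeSpectrum A, ringKrullDim (A ⧸ p.asIdeal) = d →
      Tendsto (fun t : ℕ => (d.factorial : ℝ) * (samuel I (A ⧸ p.asIdeal) t : ℝ) / (t : ℝ) ^ d)
        atTop (𝓝 (e p)))
    (M : Type u) [AddCommGroup M] [Module A M] [fin : Module.Finite A M] :
    supportDim A M ≤ d →
    Tendsto (fun t : ℕ => (d.factorial : ℝ) * (samuel I M t : ℝ) / (t : ℝ) ^ d) atTop
      (𝓝 (assocSum d e M)) := by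
  induction fin using IsNoetherianRing.induction_on_isQuotientEquivQuotientPrime A with
  | subsingleton N =>
    intro _
    rw [assocSum_of_subsingleton]
    have h0 : ∀ t, samuel I N t = 0 := by
      intro t
      unfold samuel
      rw [Module.length_eq_zero_iff.mpr inferInstance]
      simp
    simp only [h0, Int.cast_zero, mul_zero, zero_div]
    exact tendsto_const_nhds
  | quotient N q f =>
    intro hdim
    have hdimq : ringKrullDim (A ⧸ q.asIdeal) ≤ d := by
      rw [← Module.supportDim_quotient_eq_ringKrullDim, ← Module.supportDim_eq_of_equiv f]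
      exact hdim
    have hsam : ∀ t, samuel I N t = samuel I (A ⧸ q.asIdeal) t := samuel_congr I f
    have hsum : assocSum d e N = assocSum d e (A ⧸ q.asIdeal) := by
      unfold assocSum
      refine finsum_congr fun p => finsum_congr fun _ => ?_
      rw [locLen_congr f p]
    simp only [hsam]
    rw [hsum, assocSum_quotient d e q hdimq]
    by_cases h : ringKrullDim (A ⧸ q.asIdeal) = d
    · rw [if_pos h]
      exact he q h
    · rw [if_neg h]
      have hne : ringKrullDim (A ⧸ q.asIdeal) ≠ ⊥ := by
        intro hbot
        have := ringKrullDim_nonneg_of_nontrivial (R := A ⧸ q.asIdeal)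
        rw [hbot] at this
        exact absurd this (by simp)
      obtain ⟨k, hk, hkd⟩ := exists_nat_eq_of_le_of_ne_bot hdimq hne
      have hkd' : k + 1 ≤ d := by
        rcases Nat.lt_or_ge k d with h1 | h1
        · exact h1
        · exfalso
          apply h
          rw [hk, le_antisymm hkd h1]
      have hsd : supportDim A (A ⧸ q.asIdeal) ≤ k := by
        rw [Module.supportDim_quotient_eq_ringKrullDim, hk]
      have hev : EvBinom d (samuel I (A ⧸ q.asIdeal)) :=
        (evBinom_samuel_of_supportDim_le I hJ k (A ⧸ q.asIdeal) hsd).mono hkd'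
      have hz := (hev.tendsto_div_pow_zero).const_mul (d.factorial : ℝ)
      rw [mul_zero] at hz
      refine hz.congr fun t => ?_
      ring
  | exact N₁ N₂ N₃ f g hf hg hfg ih₁ ih₃ =>
    intro hdim
    have h₁ : supportDim A N₁ ≤ d := (Module.supportDim_le_of_injective f hf).trans hdim
    have h₃ : supportDim A N₃ ≤ d := (Module.supportDim_le_of_surjective g hg).trans hdim
    rw [assocSum_of_exact d e f g hf hg hfg h₁ h₃]
    exact tendsto_samuel_of_exact I d f g hf hg hfg
      (evBinom_samuel_of_supportDim_le I hJ d N₁ h₁) _ _ (ih₁ h₁) (ih₃ h₃)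

end main

end Groth.Agent.Lib.Helper85.HS
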