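import Mathlib

/-!
# Eventually binomial functions (helper85)

`EvBinom d f`: the function `f : ℕ → ℤ` agrees for large `i` with an integer combination of the
binomial functions `i ↦ C(i + k, k)`, `k < d`.  Closed under sums, shifts and "antidifferences".
-/

set_option autoImplicit false

namespace Groth.Agent.Lib.Helper85.HS

open Finset

/-- `f i = ∑_{k<d} c k * C(i+k,k)` for `i` large -/
def EvBinom (d : ℕ) (f : ℕ → ℤ) : Prop :=
  ∃ c : ℕ → ℤ, ∃ N : ℕ, ∀ i, N ≤ i → f i = ∑ k ∈ range d, c k * ((i + k).choose k : ℤ)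

namespace EvBinom

variable {d : ℕ} {f g : ℕ → ℤ}

theorem zero (d : ℕ) : EvBinom d (fun _ => 0) :=
  ⟨fun _ => 0, 0, fun i _ => by simp⟩

theorem congr (hf : EvBinom d f) (N : ℕ) (h : ∀ i, N ≤ i → g i = f i) : EvBinom d g := by
  obtain ⟨c, N', hc⟩ := hf
  exact ⟨c, max N N', fun i hi => by
    rw [h i (le_trans (le_max_left _ _) hi), hc i (le_trans (le_max_right _ _) hi)]⟩

theorem add (hf : EvBinom d f) (hg : EvBinom d g) : EvBinom d (fun i => f i + g i) := by
  obtain ⟨c, N, hc⟩ := hf
  obtain ⟨c', N', hc'⟩ := hg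
  refine ⟨fun k => c k + c' k, max N N', fun i hi => ?_⟩
  beta_reduce
  rw [hc i (le_trans (le_max_left _ _) hi), hc' i (le_trans (le_max_right _ _) hi),
    ← Finset.sum_add_distrib]
  exact Finset.sum_congr rfl fun k _ => by ring

theorem smul (a : ℤ) (hf : EvBinom d f) : EvBinom d (fun i => a * f i) := by
  obtain ⟨c, N, hc⟩ := hf
  refine ⟨fun k => a * c k, N, fun i hi => ?_⟩
  beta_reduce
  rw [hc i hi, Finset.mul_sum]
  exact Finset.sum_congr rfl fun k _ => by ring

theorem neg (hf : EvBinom d f) : EvBinom d (fun i => - f i) := by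
  have := hf.smul (-1)
  simpa using this

theorem sub (hf : EvBinom d f) (hg : EvBinom d g) : EvBinom d (fun i => f i - g i) := by
  have := hf.add hg.neg
  simpa [sub_eq_add_neg] using this

theorem mono {d e : ℕ} (hde : d ≤ e) (hf : EvBinom d f) : EvBinom e f := by
  obtain ⟨c, N, hc⟩ := hf
  refine ⟨fun k => if k < d then c k else 0, N, fun i hi => ?_⟩
  rw [hc i hi, ← Finset.sum_subset (Finset.range_mono hde)]
  · exact Finset.sum_congr rfl fun k hk => by
      beta_reduce; rw [if_pos (Finset.mem_range.mp hk)]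
  · intro k _ hk
    beta_reduce
    rw [if_neg (by simpa using hk), zero_mul]

/-- the basic binomial function -/
theorem basic {k d : ℕ} (hk : k < d) : EvBinom d (fun i => ((i + k).choose k : ℤ)) := by
  refine ⟨fun j => if j = k then 1 else 0, 0, fun i _ => ?_⟩
  rw [Finset.sum_eq_single k]
  · simp
  · intro b _ hb
    beta_reduce
    rw [if_neg hb, zero_mul]
  · intro h
    exact absurd (Finset.mem_range.mpr hk) h

theorem sum {ι : Type*} (s : Finset ι) (F : ι → ℕ → ℤ) (h : ∀ j ∈ s, EvBinom d (F j)) :
    EvBinom d (fun i => ∑ j ∈ s, F j i) := by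
  classical
  induction s using Finset.induction_on with
  | empty => simpa using zero d
  | insert a s ha ih =>
    have h1 := (h a (Finset.mem_insert_self a s)).add
      (ih fun j hj => h j (Finset.mem_insert_of_mem hj))
    refine h1.congr 0 fun i _ => ?_
    rw [Finset.sum_insert ha]

/-- shift of a basic binomial function -/
theorem basic_shift (k : ℕ) : EvBinom (k + 1) (fun i => ((i + 1 + k).choose k : ℤ)) := by
  induction k with
  | zero => exact ⟨fun _ => 1, 0, fun i _ => by simp⟩
  | succ k ih =>
    have h1 : EvBinom (k + 2) (fun i => ((i + 1 + k).choose k : ℤ)) := ih.mono (Nat.le_succ _)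
    have h2 : EvBinom (k + 2) (fun i => ((i + (k + 1)).choose (k + 1) : ℤ)) :=
      basic (Nat.lt_succ_self _)
    refine (h1.add h2).congr 0 fun i _ => ?_
    have : i + 1 + (k + 1) = (i + 1 + k) + 1 := by ring
    rw [this, Nat.choose_succ_succ', Nat.cast_add]
    have : i + 1 + k = i + (k + 1) := by ring
    rw [this]

theorem shift (hf : EvBinom d f) : EvBinom d (fun i => f (i + 1)) := by
  obtain ⟨c, N, hc⟩ := hf
  have h1 : EvBinom d (fun i => ∑ k ∈ range d, c k * ((i + 1 + k).choose k : ℤ)) := by
    apply sum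
    intro k hk
    exact ((basic_shift k).mono (Finset.mem_range.mp hk)).smul (c k)
  exact h1.congr N fun i hi => hc (i + 1) (le_trans hi (Nat.le_succ i))

/-- antidifference -/
theorem of_diff (hf : EvBinom d (fun i => f (i + 1) - f i)) : EvBinom (d + 1) f := by
  obtain ⟨c, N, hc⟩ := hf
  -- `g i = ∑ c k * C(i+k, k+1)`
  set g : ℕ → ℤ := fun i => ∑ k ∈ range d, c k * ((i + k).choose (k + 1) : ℤ) with hg
  have hgdiff : ∀ i, g (i + 1) - g i = ∑ k ∈ range d, c k * ((i + k).choose k : ℤ) := by
    intro i
    rw [hg]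
    simp only
    rw [← Finset.sum_sub_distrib]
    refine Finset.sum_congr rfl fun k _ => ?_
    have : i + 1 + k = (i + k) + 1 := by ring
    rw [this, Nat.choose_succ_succ', Nat.cast_add]
    ring
  have hconst : ∀ i, N ≤ i → f i - g i = f N - g N := by
    intro i hi
    induction i, hi using Nat.le_induction with
    | base => rfl
    | succ i hi ih =>
      have h1 := hc i hi
      have h2 := hgdiff i
      linarith
  have hg' : EvBinom (d + 1) g := by
    apply sum
    intro k hk
    have hk' : k < d := Finset.mem_range.mp hk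
    have h1 : EvBinom (d + 1) (fun i => ((i + (k + 1)).choose (k + 1) : ℤ)) :=
      basic (Nat.succ_lt_succ hk')
    have h2 : EvBinom (d + 1) (fun i => ((i + k).choose k : ℤ)) :=
      basic (Nat.lt_succ_of_lt hk')
    refine ((h1.sub h2).smul (c k)).congr 0 fun i _ => ?_
    have : i + (k + 1) = (i + k) + 1 := by ring
    rw [this, Nat.choose_succ_succ', Nat.cast_add]
    ring
  have h0 : EvBinom (d + 1) (fun i => ((i + 0).choose 0 : ℤ)) := basic (Nat.succ_pos d)
  refine (hg'.add (h0.smul (f N - g N))).congr N fun i hi => ?_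
  have := hconst i hi
  simp only [add_zero, Nat.choose_zero_right, Nat.cast_one, mul_one]
  linarith

end EvBinom

end Groth.Agent.Lib.Helper85.HS
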