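import Groth.Agent.Lib.Helper85.HS.Binomial

/-!
# Eventually binomial functions: differences, comparison (helper85)
-/

set_option autoImplicit false

namespace Groth.Agent.Lib.Helper85.HS

open Finset

/-- the binomial function `B k n = C(n+k,k)` -/
def B (k n : ℕ) : ℤ := ((n + k).choose k : ℤ)

theorem B_pos (k n : ℕ) : 0 < B k n := by
  unfold B
  exact_mod_cast Nat.choose_pos (Nat.le_add_left k n)

theorem B_zero (n : ℕ) : B 0 n = 1 := by simp [B]

/-- Pascal: `B (k+1) (n+1) = B (k+1) n + B k (n+1)` -/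
theorem B_succ_succ (k n : ℕ) : B (k + 1) (n + 1) = B (k + 1) n + B k (n + 1) := by
  unfold B
  have h1 : n + 1 + (k + 1) = (n + 1 + k) + 1 := by ring
  have h2 : n + (k + 1) = n + 1 + k := by ring
  rw [h1, Nat.choose_succ_succ', h2]
  push_cast
  ring

theorem B_le_succ (k n : ℕ) : B k n ≤ B (k + 1) n := by
  induction n with
  | zero => simp [B]
  | succ n ih =>
    rw [B_succ_succ]
    have := B_pos (k + 1) n
    linarith

theorem B_mono {j k : ℕ} (h : j ≤ k) (n : ℕ) : B j n ≤ B k n := by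
  induction h with
  | refl => exact le_rfl
  | step _ ih => exact ih.trans (B_le_succ _ n)

/-- `(k+1) * B (k+1) n = (n+k+1) * B k n` -/
theorem succ_mul_B (k n : ℕ) : ((k : ℤ) + 1) * B (k + 1) n = ((n : ℤ) + k + 1) * B k n := by
  unfold B
  have h := Nat.add_one_mul_choose_eq (n + k) k
  have h2 : n + (k + 1) = n + k + 1 := by ring
  rw [h2]
  have : ((n + k + 1 : ℕ) : ℤ) * ((n + k).choose k : ℤ) =
      ((n + k + 1).choose (k + 1) : ℤ) * ((k + 1 : ℕ) : ℤ) := by exact_mod_cast h
  push_cast at this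
  linarith

namespace EvBinom

variable {d : ℕ} {f g : ℕ → ℤ}

theorem basicB {k d : ℕ} (hk : k < d) : EvBinom d (B k) := basic hk

/-- forward difference lowers the degree -/
theorem diff (hf : EvBinom (d + 1) f) : EvBinom d (fun i => f (i + 1) - f i) := by
  obtain ⟨c, N, hc⟩ := hf
  have h1 : EvBinom d (fun i => ∑ k ∈ range d, c (k + 1) * B k (i + 1)) := by
    apply sum
    intro k hk
    exact ((basicB (Finset.mem_range.mp hk)).shift).smul (c (k + 1))
  refine h1.congr N fun i hi => ?_
  rw [hc i hi, hc (i + 1) (le_trans hi (Nat.le_succ i)), ← Finset.sum_sub_distrib,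
    Finset.sum_range_succ']
  have h0 : c 0 * ((i + 1 + 0).choose 0 : ℤ) - c 0 * ((i + 0).choose 0 : ℤ) = 0 := by simp
  rw [h0, add_zero]
  refine Finset.sum_congr rfl fun k _ => ?_
  have := B_succ_succ k i
  unfold B at this ⊢
  rw [this]
  ring

/-- backward shift -/
theorem unshift (hf : EvBinom d f) : EvBinom d (fun i => f (i - 1)) := by
  obtain ⟨c, N, hc⟩ := hf
  have h1 : EvBinom d (fun i => ∑ k ∈ range d, c k * (B k i - if k = 0 then 0 else B (k - 1) i)) := by
    apply sum
    intro k hk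
    have hk' := Finset.mem_range.mp hk
    rcases Nat.eq_zero_or_pos k with h0 | h0
    · subst h0
      refine ((basicB hk').smul (c 0)).congr 0 fun i _ => by simp
    · have h2 : EvBinom d (B (k - 1)) := basicB (by omega)
      refine (((basicB hk').sub h2).smul (c k)).congr 0 fun i _ => ?_
      rw [if_neg (by omega)]
  refine h1.congr (N + 1) fun i hi => ?_
  obtain ⟨i, rfl⟩ : ∃ i', i = i' + 1 := ⟨i - 1, by omega⟩
  rw [Nat.add_sub_cancel, hc i (by omega)]
  refine Finset.sum_congr rfl fun k _ => ?_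
  rcases Nat.eq_zero_or_pos k with h0 | h0
  · subst h0
    simp [B]
  · obtain ⟨k, rfl⟩ : ∃ k', k = k' + 1 := ⟨k - 1, by omega⟩
    rw [if_neg (by omega), Nat.add_sub_cancel, B_succ_succ]
    unfold B
    ring

theorem unshift_iter (hf : EvBinom d f) (c : ℕ) : EvBinom d (fun i => f (i - c)) := by
  induction c with
  | zero => simpa using hf
  | succ c ih =>
    refine ih.unshift.congr 0 fun i _ => ?_
    show f (i - (c + 1)) = f (i - 1 - c)
    congr 1
    omega

/-- `f n - f (n - c)` has lower degree -/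
theorem sub_unshift (hf : EvBinom (d + 1) f) (c : ℕ) : EvBinom d (fun i => f i - f (i - c)) := by
  induction c with
  | zero => exact (zero d).congr 0 fun i _ => by simp
  | succ c ih =>
    have h1 : EvBinom d (fun i => f (i - c) - f (i - (c + 1))) := by
      have h2 := (hf.diff.unshift_iter (c + 1))
      refine h2.congr (c + 1) fun i hi => ?_
      show f (i - c) - f (i - (c + 1)) = f (i - (c + 1) + 1) - f (i - (c + 1))
      congr 2
      omega
    refine (ih.add h1).congr 0 fun i _ => ?_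
    ring

/-- extraction of the top coefficient -/
theorem exists_top (hf : EvBinom (d + 1) f) :
    ∃ (a : ℤ) (h : ℕ → ℤ), EvBinom d h ∧ ∃ N, ∀ i, N ≤ i → f i = a * B d i + h i := by
  obtain ⟨c, N, hc⟩ := hf
  refine ⟨c d, fun i => ∑ k ∈ range d, c k * ((i + k).choose k : ℤ), ⟨c, 0, fun i _ => rfl⟩, N,
    fun i hi => ?_⟩
  rw [hc i hi, Finset.sum_range_succ, add_comm]
  rfl

/-- a combination with negative top coefficient is eventually negative -/
theorem eventually_neg {h : ℕ → ℤ} (hh : EvBinom d h) (a : ℤ) (ha : a < 0) :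
    ∃ N, ∀ i, N ≤ i → a * B d i + h i < 0 := by
  obtain ⟨c, N, hc⟩ := hh
  rcases Nat.eq_zero_or_pos d with h0 | h0
  · subst h0
    refine ⟨N, fun i hi => ?_⟩
    rw [hc i hi, Finset.range_zero, Finset.sum_empty, add_zero, B_zero, mul_one]
    exact ha
  obtain ⟨d, rfl⟩ : ∃ d', d = d' + 1 := ⟨d - 1, by omega⟩
  set E : ℤ := ∑ k ∈ range (d + 1), |c k| with hE
  have hE0 : 0 ≤ E := Finset.sum_nonneg fun k _ => abs_nonneg _
  refine ⟨max N ((d + 1) * (E.toNat + 1)), fun i hi => ?_⟩
  have hiN : N ≤ i := le_trans (le_max_left _ _) hi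
  have hi2 : (d + 1) * (E.toNat + 1) ≤ i := le_trans (le_max_right _ _) hi
  rw [hc i hiN]
  -- bound on the lower part
  have hlow : ∑ k ∈ range (d + 1), c k * ((i + k).choose k : ℤ) ≤ E * B d i := by
    rw [hE, Finset.sum_mul]
    refine Finset.sum_le_sum fun k hk => ?_
    have hk' : k ≤ d := Nat.lt_succ_iff.mp (Finset.mem_range.mp hk)
    have h1 : c k * B k i ≤ |c k| * B k i :=
      mul_le_mul_of_nonneg_right (le_abs_self _) (B_pos k i).le
    have h2 : |c k| * B k i ≤ |c k| * B d i :=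
      mul_le_mul_of_nonneg_left (B_mono hk' i) (abs_nonneg _)
    exact h1.trans h2
  -- `B (d+1) i ≥ (E+1) * B d i`
  have hkey : (E + 1) * B d i ≤ B (d + 1) i := by
    have h3 := succ_mul_B d i
    have hBpos := B_pos d i
    have hcast : ((d : ℤ) + 1) * (E + 1) ≤ (i : ℤ) := by
      have : (((d + 1) * (E.toNat + 1) : ℕ) : ℤ) ≤ (i : ℤ) := by exact_mod_cast hi2
      push_cast at this
      rw [Int.toNat_of_nonneg hE0] at this
      exact this
    have h4 : ((d : ℤ) + 1) * ((E + 1) * B d i) ≤ ((d : ℤ) + 1) * B (d + 1) i := by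
      rw [h3]
      have : ((d : ℤ) + 1) * ((E + 1) * B d i) = (((d : ℤ) + 1) * (E + 1)) * B d i := by ring
      rw [this]
      apply mul_le_mul_of_nonneg_right _ hBpos.le
      linarith
    have hd : (0 : ℤ) < (d : ℤ) + 1 := by positivity
    exact le_of_mul_le_mul_left h4 hd
  have hBpos := B_pos d i
  have ha' : a ≤ -1 := by omega
  have h5 : a * B (d + 1) i ≤ -1 * B (d + 1) i :=
    mul_le_mul_of_nonneg_right ha' (B_pos (d + 1) i).le
  nlinarith

/-- comparison: a nonnegative function dominated by one of degree `≤ k` has degree `≤ k` -/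
theorem of_le {k : ℕ} (hg : EvBinom (k + 1) g) :
    ∀ (D : ℕ) (f : ℕ → ℤ), EvBinom (D + 1) f →
      (∃ N, ∀ i, N ≤ i → 0 ≤ f i ∧ f i ≤ g i) → EvBinom (k + 1) f := by
  intro D
  induction D with
  | zero => intro f hf _; exact hf.mono (Nat.succ_le_succ (Nat.zero_le k))
  | succ D ih =>
    intro f hf hfg
    by_cases hDk : D + 1 ≤ k
    · exact hf.mono (Nat.succ_le_succ hDk)
    have hkD : k + 1 ≤ D + 1 := by omega
    obtain ⟨a, h, hh, N₁, hfa⟩ := hf.exists_top
    obtain ⟨N₂, hN₂⟩ := hfg
    have ha0 : a = 0 := by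
      rcases lt_trichotomy a 0 with hneg | hzero | hpos
      · obtain ⟨N₃, hN₃⟩ := hh.eventually_neg a hneg
        have h1 := hN₃ (max N₁ (max N₂ N₃)) (by simp)
        have h2 := hfa (max N₁ (max N₂ N₃)) (by simp)
        have h3 := (hN₂ (max N₁ (max N₂ N₃)) (by simp)).1
        omega
      · exact hzero
      · have hgh : EvBinom (D + 1) (fun i => g i - h i) := (hg.mono hkD).sub hh
        obtain ⟨N₃, hN₃⟩ := hgh.eventually_neg (-a) (by omega)
        have h1 := hN₃ (max N₁ (max N₂ N₃)) (by simp)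
        have h2 := hfa (max N₁ (max N₂ N₃)) (by simp)
        have h3 := (hN₂ (max N₁ (max N₂ N₃)) (by simp)).2
        beta_reduce at h1
        have : -a * B (D + 1) (max N₁ (max N₂ N₃)) = -(a * B (D + 1) (max N₁ (max N₂ N₃))) := by
          ring
        omega
    have hf' : EvBinom (D + 1) f := hh.congr N₁ fun i hi => by rw [hfa i hi, ha0]; ring
    exact ih f hf' ⟨N₂, hN₂⟩

end EvBinom

end Groth.Agent.Lib.Helper85.HS
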