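import Groth.Agent.Lib.Helper85.HS.SamuelIneq
import Groth.Agent.Lib.Helper85.HS.DimDelta

/-!
# `dim M = d(M) = δ(M)`: the dimension theorem via Samuel functions (helper85)
-/

set_option autoImplicit false
set_option linter.style.haveILetI false
universe u

namespace Groth.Agent.Lib.Helper85.HS

open Module Pointwise

theorem EvBinom.shift_iter {d : ℕ} {f : ℕ → ℤ} (hf : EvBinom d f) (c : ℕ) :
    EvBinom d (fun i => f (i + c)) := by
  induction c with
  | zero => simpa using hf
  | succ c ih =>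
    refine ih.shift.congr 0 fun i _ => ?_
    show f (i + (c + 1)) = f (i + 1 + c)
    congr 1
    omega

theorem EvBinom.const (a : ℤ) : EvBinom 1 (fun _ => a) := by
  refine ((EvBinom.basic (k := 0) (d := 1) Nat.zero_lt_one).smul a).congr 0 fun i _ => ?_
  simp

section

variable {A : Type u} [CommRing A] [IsNoetherianRing A] (I : Ideal A) [IsArtinianRing (A ⧸ I)]
  (N : Type u) [AddCommGroup N] [Module A N] [Module.Finite A N]

theorem exists_evBinom_samuel : ∃ D : ℕ, EvBinom (D + 1) (samuel I N) := by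
  classical
  obtain ⟨s, hs⟩ := IsNoetherian.noetherian I
  let e := s.equivFin
  have ha : Ideal.span (Set.range fun j : Fin s.card => ((e.symm j : s) : A)) = I := by
    rw [← hs]
    congr 1
    ext y
    constructor
    · rintro ⟨j, rfl⟩; exact (e.symm j).2
    · intro hy; exact ⟨e ⟨y, hy⟩, by simp⟩
  exact ⟨s.card, evBinom_samuel N _ ha⟩

variable {I N}

/-- comparison for Samuel functions -/
theorem evBinom_samuel_of_le {k : ℕ} {g : ℕ → ℤ} (hg : EvBinom (k + 1) g)
    (h : ∃ n₀, ∀ n, n₀ ≤ n → samuel I N n ≤ g n) : EvBinom (k + 1) (samuel I N) := by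
  obtain ⟨D, hD⟩ := exists_evBinom_samuel I N
  obtain ⟨n₀, hn₀⟩ := h
  exact hg.of_le D _ hD ⟨n₀, fun n hn => ⟨samuel_nonneg I n, hn₀ n hn⟩⟩

theorem pow_smul_le_of_samuel_eq (n : ℕ) (h : samuel I N (n + 1) = samuel I N n) :
    I ^ n • (⊤ : Submodule A N) ≤ I ^ (n + 1) • (⊤ : Submodule A N) := by
  have hlen := length_quotient_of_le N _ _ (pow_succ_smul_le (N := N) I n)
  rw [length_eq_samuel, length_eq_samuel, h] at hlen
  have h0 : Module.length A (LinearMap.range
      ((I ^ (n + 1) • (⊤ : Submodule A N)).mkQ ∘ₗ (I ^ n • (⊤ : Submodule A N)).subtype)) = 0 := by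
    generalize Module.length A (LinearMap.range
      ((I ^ (n + 1) • (⊤ : Submodule A N)).mkQ ∘ₗ (I ^ n • (⊤ : Submodule A N)).subtype)) = r
      at hlen
    induction r using ENat.recTopCoe with
    | top => rw [top_add] at hlen; exact absurd hlen (ENat.natCast_ne_top _)
    | coe r =>
      have : (samuel I N n).toNat = r + (samuel I N n).toNat := by exact_mod_cast hlen
      have : r = 0 := by omega
      rw [this]; rfl
  rw [Module.length_eq_zero_iff] at h0
  intro m hm
  have h1 : (⟨_, ⟨⟨m, hm⟩, rfl⟩⟩ : LinearMap.range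
      ((I ^ (n + 1) • (⊤ : Submodule A N)).mkQ ∘ₗ (I ^ n • (⊤ : Submodule A N)).subtype)) = 0 :=
    Subsingleton.elim _ _
  have h2 := congrArg Subtype.val h1
  simpa using h2

/-- (D6) -/
theorem isFiniteLength_of_evBinom_one (hI : I ≤ Ring.jacobson A)
    (h : EvBinom 1 (samuel I N)) : IsFiniteLength A N := by
  obtain ⟨c, n, hc⟩ := h
  have h1 : samuel I N (n + 1) = samuel I N n := by
    rw [hc n le_rfl, hc (n + 1) (Nat.le_succ n)]
    simp
  have h2 := pow_smul_le_of_samuel_eq n h1
  rw [pow_succ' I n, mul_smul] at h2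
  have hbot : I ^ n • (⊤ : Submodule A N) = ⊥ := by
    apply Submodule.eq_bot_of_le_smul_of_le_jacobson_bot I _ (IsNoetherian.noetherian _) h2
    rwa [Ideal.jacobson_bot]
  have := isFiniteLength_quotient_pow I N n
  exact (Submodule.quotEquivOfEqBot _ hbot).isFiniteLength this

/-- (D7'), the case of `A ⧸ 𝔭` -/
theorem supportDim_quotient_prime_le (hI : I ≤ Ring.jacobson A) (k : ℕ)
    (ih : ∀ (N : Type u) [AddCommGroup N] [Module A N] [Module.Finite A N],
      EvBinom (k + 1) (samuel I N) → supportDim A N ≤ k)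
    (𝔭 : Ideal A) [𝔭.IsPrime] (h : EvBinom (k + 2) (samuel I (A ⧸ 𝔭))) :
    supportDim A (A ⧸ 𝔭) ≤ (k + 1 : ℕ) := by
  by_cases hle : I ≤ 𝔭
  · -- `A ⧸ 𝔭` has finite length
    have hbot : I ^ 1 • (⊤ : Submodule A (A ⧸ 𝔭)) = ⊥ := by
      rw [pow_one, eq_bot_iff, Submodule.smul_le]
      intro a ha m _
      obtain ⟨b, rfl⟩ := Ideal.Quotient.mk_surjective m
      rw [Submodule.mem_bot, Algebra.smul_def, Ideal.Quotient.algebraMap_eq, ← map_mul,
        Ideal.Quotient.eq_zero_iff_mem]
      exact 𝔭.mul_mem_right _ (hle ha)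
    have hfl : IsFiniteLength A (A ⧸ 𝔭) :=
      (Submodule.quotEquivOfEqBot _ hbot).isFiniteLength (isFiniteLength_quotient_pow I (A ⧸ 𝔭) 1)
    exact (supportDim_le_zero_of_isFiniteLength hfl).trans (by exact_mod_cast Nat.zero_le _)
  · obtain ⟨x, hxI, hx𝔭⟩ := Set.not_subset.mp hle
    have hreg : IsSMulRegular (A ⧸ 𝔭) x := by
      intro a b hab
      simp only [Algebra.smul_def, Ideal.Quotient.algebraMap_eq] at hab
      refine mul_left_cancel₀ ?_ hab
      rwa [Ne, Ideal.Quotient.eq_zero_iff_mem]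
    obtain ⟨c, hc⟩ := samuel_quotSMulTop_le I x hreg
    have h1 : EvBinom (k + 1) (samuel I (QuotSMulTop x (A ⧸ 𝔭))) :=
      evBinom_samuel_of_le (h.sub_unshift c) ⟨c, hc⟩
    have h2 := ih _ h1
    have hxj : x ∈ (annihilator A (A ⧸ 𝔭)).jacobson :=
      jacobson_le_jacobson_annihilator _ (hI hxI)
    refine (supportDim_le_supportDim_quotSMulTop_succ_of_mem_jacobson hxj).trans ?_
    calc supportDim A (QuotSMulTop x (A ⧸ 𝔭)) + 1 ≤ (k : WithBot ℕ∞) + 1 := by gcongr
      _ = ((k + 1 : ℕ) : WithBot ℕ∞) := by norm_cast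

/-- a chain in the support of `N` is a chain in the support of `A ⧸ 𝔭`, `𝔭` a minimal prime
below its head -/
theorem exists_prime_quotient_le :
    ∀ p : LTSeries (support A N), ∃ (𝔭 : Ideal A) (_ : 𝔭.IsPrime) (j : (A ⧸ 𝔭) →ₗ[A] N),
      Function.Injective j ∧ (p.length : WithBot ℕ∞) ≤ supportDim A (A ⧸ 𝔭) := by
  intro p
  obtain ⟨𝔭, hmin, hle⟩ := Ideal.exists_minimalPrimes_le (mem_support_iff_of_finite.mp p.head.2)
  have hass := associatedPrimes.minimalPrimes_annihilator_subset_associatedPrimes A N hmin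
  rw [AssociatedPrimes.mem_iff, isAssociatedPrime_iff] at hass
  obtain ⟨hprime, z, hz⟩ := hass
  have hmem : ∀ r : A, r ∈ 𝔭 ↔ r • z = 0 := by
    intro r
    rw [hz, Submodule.mem_colon_singleton, Submodule.mem_bot]
  have hker : 𝔭 = LinearMap.ker (LinearMap.toSpanSingleton A N z) := by
    ext r
    rw [hmem, LinearMap.mem_ker, LinearMap.toSpanSingleton_apply]
  refine ⟨𝔭, hprime, Submodule.liftQ 𝔭 (LinearMap.toSpanSingleton A N z) hker.le, ?_, ?_⟩
  · rw [← LinearMap.ker_eq_bot]
    exact Submodule.ker_liftQ_eq_bot' _ _ hker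
  · have hsupp : ∀ i, (p i).1 ∈ support A (A ⧸ 𝔭) := by
      intro i
      rw [Module.mem_support_iff_of_finite, Ideal.annihilator_quotient]
      have h1 : p.head ≤ p i := LTSeries.head_le p i
      have h2 : p.head.1.asIdeal ≤ (p i).1.asIdeal := h1
      exact hle.trans h2
    let q : LTSeries (support A (A ⧸ 𝔭)) :=
      { length := p.length
        toFun := fun i => ⟨(p i).1, hsupp i⟩
        step := fun i => p.step i }
    exact Order.LTSeries.length_le_krullDim q

/-- (D7) `dim N ≤ d(N)` -/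
theorem supportDim_le_of_evBinom (hI : I ≤ Ring.jacobson A) :
    ∀ (k : ℕ) (N : Type u) [AddCommGroup N] [Module A N] [Module.Finite A N],
      EvBinom (k + 1) (samuel I N) → supportDim A N ≤ k := by
  intro k
  induction k with
  | zero =>
    intro N _ _ _ h
    exact supportDim_le_zero_of_isFiniteLength (isFiniteLength_of_evBinom_one hI h)
  | succ k ih =>
    intro N _ _ _ h
    rw [supportDim, Order.krullDim, iSup_le_iff]
    intro p
    obtain ⟨𝔭, hprime, j, hj, hlen⟩ := exists_prime_quotient_le p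
    haveI := hprime
    obtain ⟨c, hc⟩ := samuel_le_of_injective I j hj
    have h1 : EvBinom (k + 2) (samuel I (A ⧸ 𝔭)) :=
      evBinom_samuel_of_le (h.shift_iter c) ⟨0, fun n _ => hc n⟩
    exact hlen.trans (supportDim_quotient_prime_le hI k ih 𝔭 h1)

variable (I) in
/-- (D8) `d(N) ≤ δ(N)` -/
theorem evBinom_of_isFiniteLength_quotient :
    ∀ (k : ℕ) (N : Type u) [AddCommGroup N] [Module A N] [Module.Finite A N] (x : Fin k → A),
      (∀ i, x i ∈ I) →
      IsFiniteLength A (N ⧸ (Ideal.span (Set.range x) • (⊤ : Submodule A N))) →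
      EvBinom (k + 1) (samuel I N) := by
  intro k
  induction k with
  | zero =>
    intro N _ _ _ x _ hfl
    have h0 : Ideal.span (Set.range x) • (⊤ : Submodule A N) = ⊥ := by
      have : Set.range x = ∅ := Set.range_eq_empty x
      rw [this, Ideal.span_empty, Submodule.bot_smul]
    have hN : IsFiniteLength A N := (Submodule.quotEquivOfEqBot _ h0).isFiniteLength hfl
    have hN' := Module.length_ne_top_iff.mpr hN
    refine evBinom_samuel_of_le (EvBinom.const ((Module.length A N).toNat : ℤ))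
      ⟨0, fun n _ => ?_⟩
    unfold samuel
    have hle : Module.length A (N ⧸ I ^ n • (⊤ : Submodule A N)) ≤ Module.length A N :=
      Module.length_le_of_surjective _ (Submodule.mkQ_surjective _)
    exact_mod_cast ENat.toNat_le_toNat hle hN'
  | succ k ih =>
    intro N _ _ _ x hx hfl
    have e := quotConsEquiv (M := N) (x 0) (Fin.tail x)
    rw [Fin.cons_self_tail] at e
    have hQ : EvBinom (k + 1) (samuel I (QuotSMulTop (x 0) N)) :=
      ih (QuotSMulTop (x 0) N) (Fin.tail x) (fun i => hx i.succ) (e.symm.isFiniteLength hfl)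
    obtain ⟨D, hD⟩ := exists_evBinom_samuel I N
    have hdiff : EvBinom (D + 1) (fun n => samuel I N (n + 1) - samuel I N n) :=
      hD.diff.mono (Nat.le_succ D)
    apply EvBinom.of_diff
    refine hQ.shift.of_le D _ hdiff ⟨0, fun n _ => ⟨?_, samuel_succ_sub_le I (x 0) (hx 0) n⟩⟩
    rw [samuel_succ]
    have : 0 ≤ lenZ (grPiece I N) n := by unfold lenZ; positivity
    linarith

end

end Groth.Agent.Lib.Helper85.HS
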