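import Groth.Agent.Lib.Helper85.HS.Mult

/-!
# Powers of the maximal ideal nearly realise the bound `e(I) ≥ r! ℓ(O/I)` (helper85)
-/

set_option autoImplicit false
set_option linter.style.haveILetI false
universe u

namespace Groth.Agent.Lib.Helper85.HS

open Module Filter Topology

variable {O : Type u} [CommRing O] [IsNoetherianRing O] [IsLocalRing O]

theorem exists_mprimary_mult_ge (r : ℕ) (hr : ringKrullDim O = r) (ε : ℝ) (hε : 0 < ε) :
    ∃ (I : Ideal O) (e : ℝ), I ≤ IsLocalRing.maximalIdeal O ∧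
      (∃ N : ℕ, IsLocalRing.maximalIdeal O ^ N ≤ I) ∧
      Tendsto (fun n : ℕ => (r.factorial : ℝ) * ((Module.length O (O ⧸ I ^ n)).toNat : ℝ) /
        (n : ℝ) ^ r) atTop (nhds e) ∧
      (1 - ε) * ((r.factorial : ℝ) * ((Module.length O (O ⧸ I)).toNat : ℝ)) ≤ e := by
  set 𝔪 := IsLocalRing.maximalIdeal O with h𝔪
  have hJ : ∀ p : Ideal O, p.IsPrime → 𝔪 ≤ p → p.IsMaximal :=
    isMaximal_of_pow_maximalIdeal_le 𝔪 ⟨1, by rw [pow_one]⟩
  haveI := isArtinianRing_quotient_of_forall_isMaximal 𝔪 hJ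
  have hJr : 𝔪 ≤ Ring.jacobson O := (IsLocalRing.ringJacobson_eq_maximalIdeal O).ge
  have hdim : supportDim O O = r := by
    rw [Module.supportDim_self_eq_ringKrullDim, hr]
  obtain ⟨a, h, ha, hh, N, hfa⟩ := exists_top_pos 𝔪 hJ hJr r O hdim
  have hlim := EvBinom.tendsto_of_top a hh N hfa
  have hapos : (0 : ℝ) < a := by exact_mod_cast ha
  -- choice of `t`
  have ht : ∃ t : ℕ, 1 ≤ t ∧
      (1 - ε) * ((r.factorial : ℝ) * (samuel 𝔪 O t : ℝ)) ≤ (a : ℝ) * (t : ℝ) ^ r := by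
    by_cases hε1 : 1 ≤ ε
    · refine ⟨1, le_rfl, ?_⟩
      have h1 : (0 : ℝ) ≤ (r.factorial : ℝ) * (samuel 𝔪 O 1 : ℝ) := by
        have := samuel_nonneg (N := O) 𝔪 1
        have h2 : (0 : ℝ) ≤ (samuel 𝔪 O 1 : ℝ) := by exact_mod_cast this
        positivity
      have h3 : (1 - ε) * ((r.factorial : ℝ) * (samuel 𝔪 O 1 : ℝ)) ≤ 0 :=
        mul_nonpos_of_nonpos_of_nonneg (by linarith) h1
      simp only [Nat.cast_one, one_pow, mul_one]
      linarith
    · rw [not_le] at hε1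
      have h1 : (0 : ℝ) < 1 - ε := by linarith
      have h2 : (a : ℝ) < (a : ℝ) / (1 - ε) := by
        rw [lt_div_iff₀ h1]
        nlinarith
      have h3 := (tendsto_order.1 hlim).2 _ h2
      obtain ⟨t, ht1, ht2⟩ := (h3.and (eventually_ge_atTop 1)).exists
      refine ⟨t, ht2, ?_⟩
      have htpos : (0 : ℝ) < (t : ℝ) ^ r := by
        have : (0 : ℝ) < (t : ℝ) := by exact_mod_cast ht2
        positivity
      rw [div_lt_iff₀ htpos] at ht1
      have h4 : (r.factorial : ℝ) * (samuel 𝔪 O t : ℝ) < (a : ℝ) / (1 - ε) * (t : ℝ) ^ r := ht1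
      have h5 : (1 - ε) * ((r.factorial : ℝ) * (samuel 𝔪 O t : ℝ)) ≤
          (1 - ε) * ((a : ℝ) / (1 - ε) * (t : ℝ) ^ r) := by
        exact mul_le_mul_of_nonneg_left h4.le h1.le
      have h6 : (1 - ε) * ((a : ℝ) / (1 - ε) * (t : ℝ) ^ r) = (a : ℝ) * (t : ℝ) ^ r := by
        field_simp
      linarith
  obtain ⟨t, ht1, ht2⟩ := ht
  have hs : ∀ m : ℕ, (samuel 𝔪 O m : ℝ) = ((Module.length O (O ⧸ 𝔪 ^ m)).toNat : ℝ) := by
    intro m
    rw [samuel_self, Int.cast_natCast]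
  refine ⟨𝔪 ^ t, (a : ℝ) * (t : ℝ) ^ r, Ideal.pow_le_self (by omega), ⟨t, le_rfl⟩, ?_, ?_⟩
  · -- the limit along multiples of `t`
    have hmul : Tendsto (fun n : ℕ => t * n) atTop atTop :=
      tendsto_atTop_mono (fun n => Nat.le_mul_of_pos_left n ht1) tendsto_id
    have h1 := (hlim.comp hmul).mul_const ((t : ℝ) ^ r)
    refine h1.congr' ?_
    filter_upwards [eventually_ge_atTop 1] with n hn
    have hn0 : (n : ℝ) ≠ 0 := by
      have : (0 : ℝ) < (n : ℝ) := by exact_mod_cast hn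
      exact this.ne'
    have ht0 : (t : ℝ) ≠ 0 := by
      have : (0 : ℝ) < (t : ℝ) := by exact_mod_cast ht1
      exact this.ne'
    simp only [Function.comp_apply]
    rw [← pow_mul, ← hs]
    push_cast
    rw [mul_pow]
    field_simp
  · rw [← hs]
    exact ht2

end Groth.Agent.Lib.Helper85.HS
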