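import Groth.Agent.Lib.Helper85.HS.Additive

/-!
# Counting generators of `Jᵐ N / L Jᵐ N` (helper85)

For `J` generated by `s` elements, `ℓ(JᵐN / L JᵐN) ≤ β s m · ℓ(N / L N)`, where `β s m` is the number
of monomials of degree `m` in `s` variables.
-/

set_option autoImplicit false
set_option linter.style.haveILetI false
universe u

namespace Groth.Agent.Lib.Helper85.HS

open Module Pointwise

/-- the number of monomials of degree `m` in `s` variables -/
def monoCount : ℕ → ℕ → ℕ
  | 0, 0 => 1
  | 0, (_ + 1) => 0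
  | (s + 1), m => ∑ j ∈ Finset.range (m + 1), monoCount s j

theorem monoCount_zero_zero : monoCount 0 0 = 1 := rfl
theorem monoCount_zero_succ (m : ℕ) : monoCount 0 (m + 1) = 0 := rfl
theorem monoCount_succ (s m : ℕ) :
    monoCount (s + 1) m = ∑ j ∈ Finset.range (m + 1), monoCount s j := by
  cases m <;> rfl

theorem monoCount_one (m : ℕ) : monoCount 1 m = 1 := by
  rw [monoCount_succ, Finset.sum_range_succ']
  simp [monoCount_zero_zero, monoCount_zero_succ]

/-- `monoCount (s+1) m = C(m+s, s)` -/
theorem monoCount_succ_eq_choose (s m : ℕ) : monoCount (s + 1) m = (m + s).choose s := by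
  induction s generalizing m with
  | zero => simp [monoCount_one]
  | succ s ih =>
    rw [monoCount_succ]
    simp only [ih]
    induction m with
    | zero => simp
    | succ m ihm =>
      rw [Finset.sum_range_succ, ihm]
      have h1 : m + 1 + (s + 1) = (m + (s + 1)) + 1 := by ring
      have h2 : m + 1 + s = m + (s + 1) := by ring
      rw [h1, Nat.choose_succ_succ' (m + (s + 1)) s, h2, add_comm]

variable {A : Type u} [CommRing A] {P : Type u} [AddCommGroup P] [Module A P]

/-- `ℓ(N / L N)` for a submodule `N` -/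
noncomputable def qlen (L : Ideal A) (N : Submodule A P) : ℕ∞ :=
  Module.length A (↥N ⧸ L • (⊤ : Submodule A ↥N))

theorem qlen_bot (L : Ideal A) : qlen L (⊥ : Submodule A P) = 0 := by
  unfold qlen
  rw [Module.length_eq_zero_iff]
  infer_instance

theorem length_quotient_smul_le_of_surjective (L : Ideal A) {N N' : Type u} [AddCommGroup N]
    [Module A N] [AddCommGroup N'] [Module A N'] (g : N →ₗ[A] N') (hg : Function.Surjective g) :
    Module.length A (N' ⧸ L • (⊤ : Submodule A N')) ≤
      Module.length A (N ⧸ L • (⊤ : Submodule A N)) := by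
  have := length_quotient_pow_le_of_surjective L g hg 1
  rwa [pow_one] at this

theorem qlen_smul_le (L : Ideal A) (y : A) (N : Submodule A P) : qlen L (y • N) ≤ qlen L N := by
  unfold qlen
  exact length_quotient_smul_le_of_surjective L
    ((DistribSMul.toLinearMap A P y).submoduleMap N)
    (LinearMap.submoduleMap_surjective _ N)

/-- subadditivity along a right exact sequence -/
theorem length_quotient_smul_le_add (L : Ideal A) {N₁ N₂ N₃ : Type u} [AddCommGroup N₁]
    [Module A N₁] [AddCommGroup N₂] [Module A N₂] [AddCommGroup N₃] [Module A N₃]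
    (f : N₁ →ₗ[A] N₂) (g : N₂ →ₗ[A] N₃) (hg : Function.Surjective g) (hfg : Function.Exact f g) :
    Module.length A (N₂ ⧸ L • (⊤ : Submodule A N₂)) ≤
      Module.length A (N₁ ⧸ L • (⊤ : Submodule A N₁)) +
        Module.length A (N₃ ⧸ L • (⊤ : Submodule A N₃)) := by
  rw [length_quotient_eq_add_of_exact f g hg hfg (L • (⊤ : Submodule A N₂))]
  have hmap : Submodule.map g (L • (⊤ : Submodule A N₂)) = L • (⊤ : Submodule A N₃) := by
    rw [Submodule.map_smul'', Submodule.map_top, LinearMap.range_eq_top.mpr hg]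
  rw [hmap]
  gcongr
  apply length_quotient_le_of_le
  rw [← Submodule.map_le_iff_le_comap, Submodule.map_smul'']
  exact Submodule.smul_mono le_rfl le_top

theorem qlen_sup_le (L : Ideal A) (N₁ N₂ : Submodule A P) :
    qlen L (N₁ ⊔ N₂) ≤ qlen L N₁ + qlen L N₂ := by
  unfold qlen
  -- `N₁ → N₁ ⊔ N₂ → (N₁ ⊔ N₂)/N₁ → 0` and `N₂ ↠ (N₁ ⊔ N₂)/N₁`
  set W : Submodule A P := N₁ ⊔ N₂ with hW
  set f : ↥N₁ →ₗ[A] ↥W := Submodule.inclusion le_sup_left with hf
  set K : Submodule A ↥W := LinearMap.range f with hK
  have h1 := length_quotient_smul_le_add L f K.mkQ K.mkQ_surjective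
    (by rw [LinearMap.exact_iff, Submodule.ker_mkQ])
  refine h1.trans ?_
  gcongr
  -- `N₂ ↠ W ⧸ K`
  set g : ↥N₂ →ₗ[A] ↥W ⧸ K := K.mkQ ∘ₗ Submodule.inclusion le_sup_right with hg
  have hgsurj : Function.Surjective g := by
    intro z
    obtain ⟨⟨w, hw⟩, rfl⟩ := K.mkQ_surjective z
    obtain ⟨a, ha, b, hb, rfl⟩ := Submodule.mem_sup.mp hw
    refine ⟨⟨b, hb⟩, ?_⟩
    rw [hg, LinearMap.comp_apply, Submodule.mkQ_apply, Submodule.mkQ_apply, Submodule.Quotient.eq]
    refine ⟨⟨-a, N₁.neg_mem ha⟩, ?_⟩
    apply Subtype.ext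
    simp [hf]
  exact length_quotient_smul_le_of_surjective L g hgsurj

theorem qlen_finset_sup_le (L : Ideal A) {ι : Type*} (s : Finset ι) (N : ι → Submodule A P) :
    qlen L (s.sup N) ≤ ∑ j ∈ s, qlen L (N j) := by
  classical
  induction s using Finset.induction_on with
  | empty => simp [qlen_bot]
  | insert a s ha ih =>
    rw [Finset.sup_insert, Finset.sum_insert ha]
    exact (qlen_sup_le L _ _).trans (by gcongr)

/-- binomial expansion of a power of `(a) + J` -/
theorem span_singleton_sup_pow (a : A) (J : Ideal A) (m : ℕ) :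
    (Ideal.span {a} ⊔ J) ^ m =
      (Finset.range (m + 1)).sup fun j => Ideal.span {a ^ j} * J ^ (m - j) := by
  rw [← Ideal.add_eq_sup, add_pow, Ideal.sum_eq_sup]
  refine Finset.sup_congr rfl fun j hj => ?_
  have hj' : j ≤ m := Nat.lt_succ_iff.mp (Finset.mem_range.mp hj)
  rw [Ideal.natCast_eq_top (Nat.choose_pos hj').ne', Ideal.mul_top, Ideal.span_singleton_pow]

theorem pow_smul_eq_sup (a : A) (J : Ideal A) (m : ℕ) (N : Submodule A P) :
    (Ideal.span {a} ⊔ J) ^ m • N =
      (Finset.range (m + 1)).sup fun j => a ^ j • (J ^ (m - j) • N) := by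
  rw [span_singleton_sup_pow]
  have : ∀ (s : Finset ℕ) (F : ℕ → Ideal A), (s.sup F) • N = s.sup fun j => F j • N := by
    intro s F
    induction s using Finset.induction_on with
    | empty => simp
    | insert b s hb ih => rw [Finset.sup_insert, Finset.sup_insert, Submodule.sup_smul, ih]
  rw [this]
  refine Finset.sup_congr rfl fun j _ => ?_
  rw [mul_smul, Submodule.ideal_span_singleton_smul]

/-- **monomial count**: `ℓ(JᵐN / L JᵐN) ≤ β s m · ℓ(N / L N)` for `J` generated by `s` elements -/
theorem qlen_pow_smul_le (L : Ideal A) : ∀ (s : ℕ) (y : Fin s → A) (N : Submodule A P) (m : ℕ),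
    qlen L (Ideal.span (Set.range y) ^ m • N) ≤ (monoCount s m : ℕ∞) * qlen L N := by
  intro s
  induction s with
  | zero =>
    intro y N m
    have h0 : Ideal.span (Set.range y) = ⊥ := by
      have : Set.range y = ∅ := Set.range_eq_empty y
      rw [this, Ideal.span_empty]
    rw [h0]
    cases m with
    | zero =>
      rw [pow_zero, Ideal.one_eq_top, Submodule.top_smul, monoCount_zero_zero]
      simp
    | succ m =>
      rw [Ideal.bot_pow (Nat.succ_ne_zero m), Submodule.bot_smul, qlen_bot]
      exact bot_le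
  | succ s ih =>
    intro y N m
    have hspan : Ideal.span (Set.range y) =
        Ideal.span {y 0} ⊔ Ideal.span (Set.range (Fin.tail y)) := by
      conv_lhs => rw [← Fin.cons_self_tail y, Fin.range_cons, Ideal.span_insert]
    rw [hspan, pow_smul_eq_sup]
    refine (qlen_finset_sup_le L _ _).trans ?_
    rw [monoCount_succ]
    push_cast
    rw [Finset.sum_mul]
    -- reindex `j ↦ m - j`
    rw [← Finset.sum_range_reflect (fun j => (monoCount s j : ℕ∞) * qlen L N) (m + 1)]
    refine Finset.sum_le_sum fun j hj => ?_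
    have hj' : j ≤ m := Nat.lt_succ_iff.mp (Finset.mem_range.mp hj)
    have hidx : m + 1 - 1 - j = m - j := by omega
    rw [hidx]
    exact (qlen_smul_le L _ _).trans (ih (Fin.tail y) N (m - j))

end Groth.Agent.Lib.Helper85.HS
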