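import Groth.Agent.Lib.Helper85.HS.Core

/-!
# The associated graded module via Rees modules (helper85)

For an ideal `I` of `A` and an `A`-module `N`, `Gr I N := R(N) / R⁺(N)` where
`R(N) = ⨁ Iⁿ N tⁿ ⊆ N[t]` is the Rees module (a module over the Rees algebra) and
`R⁺(N) = ⨁ Iⁿ⁺¹ N tⁿ`.
-/

set_option autoImplicit false
set_option linter.style.haveILetI false
set_option maxSynthPendingDepth 3
universe u

namespace Groth.Agent.Lib.Helper85.HS

open Polynomial PolynomialModule

variable {A : Type u} [CommRing A] (I : Ideal A) (N : Type u) [AddCommGroup N] [Module A N]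

/-- the Rees module `⨁ Iⁿ N tⁿ` -/
noncomputable abbrev reesMod : Submodule (reesAlgebra I) (PolynomialModule A N) :=
  (I.stableFiltration (⊤ : Submodule A N)).submodule

/-- the filtration `n ↦ Iⁿ⁺¹ N` -/
noncomputable def shiftFiltration : I.Filtration N where
  N i := I ^ (i + 1) • ⊤
  mono i := by
    rw [pow_succ' I (i + 1), mul_smul]; exact Submodule.smul_le_right
  smul_le i := by
    rw [pow_succ' I (i + 1), mul_smul]

/-- `⨁ Iⁿ⁺¹ N tⁿ` -/
noncomputable abbrev reesModPlus : Submodule (reesAlgebra I) (PolynomialModule A N) :=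
  (shiftFiltration I N).submodule

/-- the associated graded module -/
noncomputable abbrev Gr : Type u :=
  (reesMod I N) ⧸ ((reesModPlus I N).submoduleOf (reesMod I N))

theorem mem_reesMod_iff (f : PolynomialModule A N) :
    f ∈ reesMod I N ↔ ∀ i, f.coeff i ∈ I ^ i • (⊤ : Submodule A N) := Iff.rfl

theorem mem_reesModPlus_iff (f : PolynomialModule A N) :
    f ∈ reesModPlus I N ↔ ∀ i, f.coeff i ∈ I ^ (i + 1) • (⊤ : Submodule A N) := Iff.rfl

theorem single_mem_reesMod (i : ℕ) (m : N) (hm : m ∈ I ^ i • (⊤ : Submodule A N)) :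
    single A i m ∈ reesMod I N := by
  intro j
  rw [coeff_single, Finsupp.single_apply]
  split_ifs with h
  · rw [← h]; exact hm
  · exact Submodule.zero_mem _

/-- `m ↦ m tⁱ` into the Rees module -/
noncomputable def toRees (i : ℕ) : ↥(I ^ i • (⊤ : Submodule A N)) →ₗ[A] ↥(reesMod I N) where
  toFun m := ⟨single A i m.1, single_mem_reesMod I N i m.1 m.2⟩
  map_add' m m' := by
    apply Subtype.ext
    show single A i ((m + m' : ↥(I ^ i • (⊤ : Submodule A N))) : N) = _
    rw [Submodule.coe_add, single_add]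
    rfl
  map_smul' c m := by
    apply Subtype.ext
    show single A i ((c • m : ↥(I ^ i • (⊤ : Submodule A N))) : N) = _
    rw [Submodule.coe_smul, single_smul]
    rfl

/-- `m ↦ [m tⁱ]` into the associated graded module -/
noncomputable def grι (i : ℕ) : ↥(I ^ i • (⊤ : Submodule A N)) →ₗ[A] Gr I N :=
  (((reesModPlus I N).submoduleOf (reesMod I N)).mkQ.restrictScalars A).comp (toRees I N i)

/-- the graded pieces -/
noncomputable def grPiece (i : ℕ) : Submodule A (Gr I N) := LinearMap.range (grι I N i)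

theorem grι_eq_zero_iff (i : ℕ) (m : ↥(I ^ i • (⊤ : Submodule A N))) :
    grι I N i m = 0 ↔ (m : N) ∈ I ^ (i + 1) • (⊤ : Submodule A N) := by
  show ((reesModPlus I N).submoduleOf (reesMod I N)).mkQ (toRees I N i m) = 0 ↔ _
  rw [Submodule.mkQ_apply, Submodule.Quotient.mk_eq_zero, Submodule.submoduleOf,
    Submodule.mem_comap]
  show single A i (m : N) ∈ reesModPlus I N ↔ _
  rw [mem_reesModPlus_iff]
  constructor
  · intro h
    have := h i
    rwa [coeff_single, Finsupp.single_eq_same] at this
  · intro h j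
    rw [coeff_single, Finsupp.single_apply]
    split_ifs with hij
    · rw [← hij]; exact h
    · exact Submodule.zero_mem _

theorem ker_grι (i : ℕ) : LinearMap.ker (grι I N i) =
    (I ^ (i + 1) • (⊤ : Submodule A N)).comap (I ^ i • (⊤ : Submodule A N)).subtype := by
  ext m
  rw [LinearMap.mem_ker, grι_eq_zero_iff]
  rfl

section generators

variable {I} {D : ℕ} (a : Fin D → A) (ha : Ideal.span (Set.range a) = I)

/-- generators `a j * t` of the Rees algebra -/
noncomputable def reesGen (j : Fin D) : reesAlgebra I :=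
  ⟨monomial 1 (a j), reesAlgebra.monomial_mem.mpr (by
    rw [pow_one, ← ha]; exact Ideal.subset_span ⟨j, rfl⟩)⟩

theorem adjoin_reesGen : Algebra.adjoin A (Set.range (reesGen a ha)) = ⊤ := by
  apply Subalgebra.map_injective (f := (reesAlgebra I).val) Subtype.val_injective
  rw [AlgHom.map_adjoin, Algebra.map_top, Subalgebra.range_val, ← Set.range_comp]
  have h1 : ((reesAlgebra I).val ∘ reesGen a ha) = fun j => monomial 1 (a j) := rfl
  rw [h1, ← adjoin_monomial_eq_reesAlgebra, ← ha, Submodule.map_span, Algebra.adjoin_span,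
    ← Set.range_comp]
  rfl

theorem smul_mem_pow_succ {i : ℕ} {c : A} (hc : c ∈ I) {m : N}
    (hm : m ∈ I ^ i • (⊤ : Submodule A N)) : c • m ∈ I ^ (i + 1) • (⊤ : Submodule A N) := by
  rw [pow_succ' I i, mul_smul]
  exact Submodule.smul_mem_smul hc hm

theorem eq_sum_single (f : PolynomialModule A N) :
    f = ∑ i ∈ f.coeff.support, single A i (f.coeff i) := by
  conv_lhs => rw [← f.ofCoeff_coeff, ← f.coeff.sum_single, ofCoeff_finsuppSum]
  rfl

theorem iSupIndep_grPiece : iSupIndep (grPiece I N) := by
  classical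
  rw [iSupIndep_iff_finsetSum_eq_zero_imp_eq_zero]
  intro s v hv hsum k hk
  choose! m hm using hv
  have h1 : (∑ i ∈ s, toRees I N i (m i)) ∈ (reesModPlus I N).submoduleOf (reesMod I N) := by
    rw [← Submodule.Quotient.mk_eq_zero, ← Submodule.mkQ_apply, map_sum, ← hsum]
    exact Finset.sum_congr rfl fun i hi => hm i hi
  rw [Submodule.submoduleOf, Submodule.mem_comap, Submodule.subtype_apply,
    AddSubmonoidClass.coe_finsetSum, mem_reesModPlus_iff] at h1
  have h2 := h1 k
  rw [PolynomialModule.coeff_sum, Finset.sum_apply', Finset.sum_eq_single k] at h2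
  · have h3 : ((toRees I N k (m k) : ↥(reesMod I N)) : PolynomialModule A N).coeff k
        = (m k : N) := by
      show (single A k (m k : N)).coeff k = _
      rw [coeff_single, Finsupp.single_eq_same]
    rw [h3] at h2
    rw [← hm k hk]
    exact (grι_eq_zero_iff I N k (m k)).mpr h2
  · intro i _ hik
    show (single A i (m i : N)).coeff k = 0
    rw [coeff_single, Finsupp.single_eq_of_ne (Ne.symm hik)]
  · intro hk'; exact absurd hk hk'

theorem iSup_grPiece : iSup (grPiece I N) = ⊤ := by
  classical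
  rw [eq_top_iff]
  rintro g -
  obtain ⟨⟨f, hf⟩, rfl⟩ := ((reesModPlus I N).submoduleOf (reesMod I N)).mkQ_surjective g
  have h1 : (⟨f, hf⟩ : ↥(reesMod I N)) =
      ∑ i ∈ f.coeff.support, toRees I N i ⟨f.coeff i, hf i⟩ := by
    apply Subtype.ext
    rw [AddSubmonoidClass.coe_finsetSum]
    exact eq_sum_single N f
  rw [h1, map_sum]
  refine Submodule.sum_mem _ fun i _ => ?_
  exact Submodule.mem_iSup_of_mem i ⟨⟨f.coeff i, hf i⟩, rfl⟩

theorem reesGen_smul_mem (j : Fin D) (i : ℕ) (g : Gr I N) (hg : g ∈ grPiece I N i) :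
    reesGen a ha j • g ∈ grPiece I N (i + 1) := by
  obtain ⟨m, rfl⟩ := hg
  refine ⟨⟨a j • (m : N), smul_mem_pow_succ N (by
    rw [← ha]; exact Ideal.subset_span ⟨j, rfl⟩) m.2⟩, ?_⟩
  show ((reesModPlus I N).submoduleOf (reesMod I N)).mkQ _ =
    reesGen a ha j • ((reesModPlus I N).submoduleOf (reesMod I N)).mkQ (toRees I N i m)
  rw [← _root_.map_smul]
  congr 1
  apply Subtype.ext
  show single A (i + 1) (a j • (m : N)) = monomial 1 (a j) • single A i (m : N)
  rw [monomial_smul_single, add_comm]

theorem smul_gr_eq_zero (c : A) (hc : c ∈ I) (g : Gr I N) : c • g = 0 := by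
  obtain ⟨⟨f, hf⟩, rfl⟩ := ((reesModPlus I N).submoduleOf (reesMod I N)).mkQ_surjective g
  rw [Submodule.mkQ_apply, ← Submodule.Quotient.mk_smul, Submodule.Quotient.mk_eq_zero,
    Submodule.submoduleOf, Submodule.mem_comap]
  show c • f ∈ reesModPlus I N
  intro i
  exact smul_mem_pow_succ N hc (hf i)

theorem grData : GrData I (reesGen a ha) (Gr I N) (grPiece I N) :=
  ⟨iSupIndep_grPiece N, iSup_grPiece N, reesGen_smul_mem N a ha, smul_gr_eq_zero N⟩

end generators

section finite

variable [IsNoetherianRing A] [Module.Finite A N]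

instance finite_reesMod : Module.Finite (reesAlgebra I) ↥(reesMod I N) := by
  rw [Module.Finite.iff_fg]
  exact (Ideal.Filtration.submodule_fg_iff_stable _
    (fun i => IsNoetherian.noetherian _)).mpr (I.stableFiltration_stable ⊤)

instance finite_gr : Module.Finite (reesAlgebra I) (Gr I N) := inferInstance

end finite

section samuel

theorem length_range_eq_of_ker_eq {P Q Q' : Type*} [AddCommGroup P] [Module A P]
    [AddCommGroup Q] [Module A Q] [AddCommGroup Q'] [Module A Q']
    (f : P →ₗ[A] Q) (g : P →ₗ[A] Q') (h : LinearMap.ker f = LinearMap.ker g) :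
    Module.length A (LinearMap.range f) = Module.length A (LinearMap.range g) :=
  ((f.quotKerEquivRange).symm.trans
    ((Submodule.quotEquivOfEq _ _ h).trans g.quotKerEquivRange)).length_eq

theorem length_quotient_of_le (P' P : Submodule A N) (h : P' ≤ P) :
    Module.length A (N ⧸ P') =
      Module.length A (LinearMap.range (P'.mkQ ∘ₗ P.subtype)) + Module.length A (N ⧸ P) := by
  have hK : LinearMap.range (P'.mkQ ∘ₗ P.subtype) = Submodule.map P'.mkQ P := by
    rw [LinearMap.range_comp, Submodule.range_subtype]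
  set K := LinearMap.range (P'.mkQ ∘ₗ P.subtype) with hKdef
  have l := Module.length_eq_add_of_exact K.subtype K.mkQ K.injective_subtype
    K.mkQ_surjective (LinearMap.exact_subtype_mkQ K)
  rw [l]
  congr 1
  exact ((Submodule.quotEquivOfEq _ _ hK).trans
    (Submodule.quotientQuotientEquivQuotient P' P h)).length_eq

variable {N} in
theorem pow_succ_smul_le (n : ℕ) :
    I ^ (n + 1) • (⊤ : Submodule A N) ≤ I ^ n • (⊤ : Submodule A N) := by
  rw [pow_succ' I n, mul_smul]; exact Submodule.smul_le_right

/-- `ℓ(N/Iⁿ⁺¹N) = ℓ(gr_n) + ℓ(N/IⁿN)` -/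
theorem length_quotient_pow_succ (n : ℕ) :
    Module.length A (N ⧸ I ^ (n + 1) • (⊤ : Submodule A N)) =
      Module.length A (grPiece I N n) + Module.length A (N ⧸ I ^ n • (⊤ : Submodule A N)) := by
  rw [length_quotient_of_le N _ _ (pow_succ_smul_le I n)]
  congr 1
  apply length_range_eq_of_ker_eq
  rw [ker_grι, LinearMap.ker_comp, Submodule.ker_mkQ]

/-- the Samuel function `n ↦ ℓ(N/IⁿN)` -/
noncomputable def samuel (n : ℕ) : ℤ :=
  ((Module.length A (N ⧸ I ^ n • (⊤ : Submodule A N))).toNat : ℤ)

variable [IsNoetherianRing A] [Module.Finite A N] [IsArtinianRing (A ⧸ I)]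

variable {I} in
theorem gr_lengths {D : ℕ} (a : Fin D → A) (ha : Ideal.span (Set.range a) = I) :
    (∀ i, IsFiniteLength A (grPiece I N i)) ∧ EvBinom D (lenZ (grPiece I N)) :=
  hilbert_serre I (reesGen a ha) (adjoin_reesGen a ha) D le_rfl (Gr I N) (grPiece I N)
    (grData N a ha) (fun j hj => absurd j.2 (not_lt.mpr hj))

theorem isFiniteLength_quotient_pow (n : ℕ) :
    IsFiniteLength A (N ⧸ I ^ n • (⊤ : Submodule A N)) := by
  classical
  obtain ⟨s, hs⟩ := IsNoetherian.noetherian I
  let e := s.equivFin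
  have ha : Ideal.span (Set.range fun j : Fin s.card => ((e.symm j : s) : A)) = I := by
    rw [← hs]
    congr 1
    ext y
    constructor
    · rintro ⟨j, rfl⟩; exact (e.symm j).2
    · intro hy; exact ⟨e ⟨y, hy⟩, by simp⟩
  obtain ⟨hfin, -⟩ := gr_lengths N _ ha
  induction n with
  | zero =>
    rw [pow_zero, Ideal.one_eq_top, Submodule.top_smul]
    exact IsFiniteLength.of_subsingleton
  | succ n ih =>
    rw [← Module.length_ne_top_iff] at ih ⊢
    rw [length_quotient_pow_succ]
    exact WithTop.add_ne_top.mpr ⟨Module.length_ne_top_iff.mpr (hfin n), ih⟩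

theorem samuel_succ (n : ℕ) : samuel I N (n + 1) = lenZ (grPiece I N) n + samuel I N n := by
  have h1 := Module.length_ne_top_iff.mpr (isFiniteLength_quotient_pow I N n)
  have h2 := Module.length_ne_top_iff.mpr (isFiniteLength_quotient_pow I N (n + 1))
  have hrel := length_quotient_pow_succ I N n
  have h3 : Module.length A (grPiece I N n) ≠ ⊤ := by
    intro htop
    rw [htop, top_add] at hrel
    exact h2 hrel
  have hnat := congrArg ENat.toNat hrel
  rw [ENat.toNat_add h3 h1] at hnat
  simp only [samuel, lenZ]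
  omega

variable {I} in
/-- the Samuel function is eventually a binomial polynomial of degree `≤ D`, `D` the number of
generators of `I` -/
theorem evBinom_samuel {D : ℕ} (a : Fin D → A) (ha : Ideal.span (Set.range a) = I) :
    EvBinom (D + 1) (samuel I N) := by
  obtain ⟨-, hev⟩ := gr_lengths N a ha
  apply EvBinom.of_diff
  refine hev.congr 0 fun n _ => ?_
  rw [samuel_succ]
  ring

end samuel

end Groth.Agent.Lib.Helper85.HS
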