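import Groth.Agent.Lib.Helper85.HS.TopCoeff
import Groth.Agent.Lib.Helper85.HS.Assoc

/-!
# Counting top-dimensional minimal primes by the colength of a parameter ideal (helper85)
-/

set_option autoImplicit false
set_option linter.style.haveILetI false
universe u

namespace Groth.Agent.Lib.Helper85.HS

open Module Filter Topology

variable {R : Type u} [CommRing R] [IsNoetherianRing R] [IsLocalRing R]

omit [IsLocalRing R] in
theorem one_le_locLen_self (d : ℕ) (hdim : supportDim R R ≤ d) (p : PrimeSpectrum R)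
    (hp : ringKrullDim (R ⧸ p.asIdeal) = d) : (1 : ℝ) ≤ locLen R p := by
  have hsupp : p ∈ support R R := by
    rw [Module.mem_support_iff_of_finite]
    intro a ha
    have h1 := Module.mem_annihilator.mp ha 1
    rw [smul_eq_mul, mul_one] at h1
    rw [h1]
    exact p.asIdeal.zero_mem
  have htop := length_localizedModule_ne_top R d hdim p hp
  have h0 : Module.length (Localization.AtPrime p.asIdeal)
      (LocalizedModule p.asIdeal.primeCompl R) ≠ 0 := by
    rw [Ne, Module.length_eq_zero_iff, not_subsingleton_iff_nontrivial]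
    exact (Module.mem_support_iff).mp hsupp
  have h1 : 1 ≤ (Module.length (Localization.AtPrime p.asIdeal)
      (LocalizedModule p.asIdeal.primeCompl R)).toNat := by
    rw [Nat.one_le_iff_ne_zero, Ne, ENat.toNat_eq_zero]
    rintro (h | h)
    · exact h0 h
    · exact htop h
  unfold locLen
  exact_mod_cast h1

theorem ncard_minimalPrimes_le_length (d : ℕ) (hd : ringKrullDim R = d) (g : Fin d → R)
    (hg : ∀ i, g i ∈ IsLocalRing.maximalIdeal R)
    (hsop : IsLocalRing.maximalIdeal R ≤ (Ideal.span (Set.range g)).radical) :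
    (Set.ncard {p : Ideal R | p ∈ minimalPrimes R ∧ ringKrullDim (R ⧸ p) = d} : ℕ∞) ≤
      Module.length R (R ⧸ Ideal.span (Set.range g)) := by
  classical
  set q := Ideal.span (Set.range g) with hq
  have hJ : ∀ p : Ideal R, p.IsPrime → q ≤ p → p.IsMaximal := by
    intro p hp hqp
    have h1 : IsLocalRing.maximalIdeal R ≤ p := hsop.trans (hp.radical_le_iff.mpr hqp)
    rw [← (IsLocalRing.maximalIdeal.isMaximal R).eq_of_le hp.ne_top h1]
    exact IsLocalRing.maximalIdeal.isMaximal R
  haveI := isArtinianRing_quotient_of_forall_isMaximal q hJ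
  have hqm : q ≤ IsLocalRing.maximalIdeal R :=
    Ideal.span_le.mpr (by rintro _ ⟨i, rfl⟩; exact hg i)
  have hJr : q ≤ Ring.jacobson R := hqm.trans (IsLocalRing.ringJacobson_eq_maximalIdeal R).ge
  have hdimR : supportDim R R = d := by rw [Module.supportDim_self_eq_ringKrullDim, hd]
  -- the top coefficient for `R`
  obtain ⟨a, h, -, hh, N, hfa⟩ := exists_top_pos q hJ hJr d R hdimR
  have haTop : HasTop d (samuel q R) a := ⟨h, hh, N, hfa⟩
  have hflq : IsFiniteLength R (R ⧸ (q • (⊤ : Submodule R R))) := by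
    have := isFiniteLength_quotient_pow q R 1
    rwa [pow_one] at this
  have hbound := top_le_length_quotient q d R g (fun i => Ideal.subset_span ⟨i, rfl⟩) hflq a haTop
  rw [length_quotient_smul_top_self] at hbound
  have hfinq : Module.length R (R ⧸ q) ≠ ⊤ := by
    rw [← length_quotient_smul_top_self]
    exact Module.length_ne_top_iff.mpr hflq
  -- the multiplicities of the `R ⧸ p`
  have hex : ∀ p : PrimeSpectrum R, ringKrullDim (R ⧸ p.asIdeal) = d →
      ∃ b : ℤ, 0 < b ∧ HasTop d (samuel q (R ⧸ p.asIdeal)) b := by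
    intro p hp
    have hdimp : supportDim R (R ⧸ p.asIdeal) = d := by
      rw [Module.supportDim_quotient_eq_ringKrullDim, hp]
    obtain ⟨b, h', hb, hh', N', hfb⟩ := exists_top_pos q hJ hJr d (R ⧸ p.asIdeal) hdimp
    exact ⟨b, hb, h', hh', N', hfb⟩
  let e : PrimeSpectrum R → ℝ := fun p =>
    if hp : ringKrullDim (R ⧸ p.asIdeal) = d then ((hex p hp).choose : ℝ) else 0
  have he : ∀ p : PrimeSpectrum R, ringKrullDim (R ⧸ p.asIdeal) = d →
      Tendsto (fun t : ℕ => (d.factorial : ℝ) * (samuel q (R ⧸ p.asIdeal) t : ℝ) / (t : ℝ) ^ d)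
        atTop (𝓝 (e p)) := by
    intro p hp
    simp only [e, dif_pos hp]
    exact (hex p hp).choose_spec.2.tendsto
  have he1 : ∀ p : PrimeSpectrum R, ringKrullDim (R ⧸ p.asIdeal) = d → (1 : ℝ) ≤ e p := by
    intro p hp
    simp only [e, dif_pos hp]
    have := (hex p hp).choose_spec.1
    exact_mod_cast this
  have hassoc := tendsto_samuel_assocSum d e q hJ he R hdimR.le
  have heq : (a : ℝ) = assocSum d e R := tendsto_nhds_unique haTop.tendsto hassoc
  -- the finite set of top-dimensional primes
  set T : Set (PrimeSpectrum R) := {p | ringKrullDim (R ⧸ p.asIdeal) = d} with hT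
  have hTfin : T.Finite := by
    refine (finite_setOf_ringKrullDim_quotient_eq_inter_support R d hdimR.le).subset
      fun p hp => ⟨hp, ?_⟩
    rw [Module.mem_support_iff_of_finite]
    intro x hx
    have h1 := Module.mem_annihilator.mp hx 1
    rw [smul_eq_mul, mul_one] at h1
    rw [h1]
    exact p.asIdeal.zero_mem
  have hsum : (T.ncard : ℝ) ≤ assocSum d e R := by
    rw [assocSum_eq, finsum_eq_sum_of_support_subset _ (s := hTfin.toFinset)]
    · rw [Set.ncard_eq_toFinset_card _ hTfin]
      calc ((hTfin.toFinset.card : ℕ) : ℝ) = ∑ _p ∈ hTfin.toFinset, (1 : ℝ) := by simp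
        _ ≤ _ := Finset.sum_le_sum fun p hp => ?_
      have hp' : ringKrullDim (R ⧸ p.asIdeal) = d := (hTfin.mem_toFinset).mp hp
      rw [if_pos hp']
      have h1 := one_le_locLen_self d hdimR.le p hp'
      have h2 := he1 p hp'
      nlinarith
    · intro p hp
      rw [Function.mem_support] at hp
      rw [Set.Finite.coe_toFinset]
      by_contra hpT
      exact hp (if_neg hpT)
  -- comparison of the two index sets
  have hST : {p : Ideal R | p ∈ minimalPrimes R ∧ ringKrullDim (R ⧸ p) = d} ⊆
      PrimeSpectrum.asIdeal '' T := by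
    rintro p ⟨hpmin, hpd⟩
    exact ⟨⟨p, hpmin.1.1⟩, hpd, rfl⟩
  have hcard : Set.ncard {p : Ideal R | p ∈ minimalPrimes R ∧ ringKrullDim (R ⧸ p) = d} ≤
      T.ncard :=
    (Set.ncard_le_ncard hST (hTfin.image _)).trans (Set.ncard_image_le hTfin)
  have hchain : (T.ncard : ℤ) ≤ a := by
    have : (T.ncard : ℝ) ≤ (a : ℝ) := heq ▸ hsum
    exact_mod_cast this
  have hfinal : Set.ncard {p : Ideal R | p ∈ minimalPrimes R ∧ ringKrullDim (R ⧸ p) = d} ≤
      (Module.length R (R ⧸ q)).toNat := by
    have h1 : (Set.ncard {p : Ideal R | p ∈ minimalPrimes R ∧ ringKrullDim (R ⧸ p) = d} : ℤ) ≤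
        T.ncard := by exact_mod_cast hcard
    have := h1.trans (hchain.trans hbound)
    exact_mod_cast this
  rw [← ENat.natCast_toNat hfinq]
  exact_mod_cast hfinal

end Groth.Agent.Lib.Helper85.HS
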