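import Groth.Agent.Lib.Helper85.HS.Binomial2

/-!
# From eventually binomial functions to rational polynomials (helper85)
-/

set_option autoImplicit false

namespace Groth.Agent.Lib.Helper85.HS

open Finset Polynomial

/-- the polynomial attached to a binomial combination -/
noncomputable def binomPoly (c : ℕ → ℤ) (d : ℕ) : ℚ[X] :=
  ∑ k ∈ range d, C (c k : ℚ) * preHilbertPoly ℚ k 0

theorem eval_binomPoly (c : ℕ → ℤ) (d : ℕ) (n : ℕ) :
    (binomPoly c d).eval (n : ℚ) = ((∑ k ∈ range d, c k * ((n + k).choose k : ℤ) : ℤ) : ℚ) := by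
  unfold binomPoly
  rw [eval_finsetSum]
  push_cast
  refine Finset.sum_congr rfl fun k _ => ?_
  rw [eval_mul, eval_C, preHilbertPoly_eq_choose_sub_add ℚ k (Nat.zero_le n), Nat.sub_zero]

theorem natDegree_binomPoly_le (c : ℕ → ℤ) (d : ℕ) : (binomPoly c (d + 1)).natDegree ≤ d := by
  unfold binomPoly
  refine natDegree_sum_le_of_forall_le _ _ fun k hk => ?_
  refine (natDegree_C_mul_le _ _).trans ?_
  rw [natDegree_preHilbertPoly]
  exact Nat.lt_succ_iff.mp (Finset.mem_range.mp hk)

theorem natDegree_binomPoly (c : ℕ → ℤ) (d : ℕ) (hc : c d ≠ 0) :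
    (binomPoly c (d + 1)).natDegree = d := by
  have htop : (C (c d : ℚ) * preHilbertPoly ℚ d 0).natDegree = d := by
    rw [natDegree_C_mul (by exact_mod_cast hc), natDegree_preHilbertPoly]
  rcases Nat.eq_zero_or_pos d with h0 | h0
  · exact le_antisymm (natDegree_binomPoly_le c d) (by omega)
  · obtain ⟨e, rfl⟩ : ∃ e, d = e + 1 := ⟨d - 1, by omega⟩
    have hlow : (binomPoly c (e + 1)).natDegree ≤ e := natDegree_binomPoly_le c e
    have : binomPoly c (e + 1 + 1) =
        binomPoly c (e + 1) + C (c (e + 1) : ℚ) * preHilbertPoly ℚ (e + 1) 0 := by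
      unfold binomPoly
      rw [Finset.sum_range_succ _ (e + 1)]
    rw [this, natDegree_add_eq_right_of_natDegree_lt (by omega), htop]

/-- an eventually binomial function of exact degree `d` is eventually a polynomial of degree `d` -/
theorem EvBinom.exists_polynomial {d : ℕ} {f : ℕ → ℤ} (hf : EvBinom (d + 1) f)
    (hd : d = 0 ∨ ¬ EvBinom d f) :
    ∃ P : ℚ[X], P.natDegree = d ∧ ∃ N : ℕ, ∀ n, N ≤ n → (f n : ℚ) = P.eval (n : ℚ) := by
  obtain ⟨c, N, hc⟩ := hf
  refine ⟨binomPoly c (d + 1), ?_, N, fun n hn => by rw [eval_binomPoly, hc n hn]⟩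
  rcases hd with rfl | hd
  · exact le_antisymm (natDegree_binomPoly_le c 0) (Nat.zero_le _)
  · apply natDegree_binomPoly
    intro h0
    apply hd
    refine ⟨c, N, fun n hn => ?_⟩
    rw [hc n hn, Finset.sum_range_succ, h0, zero_mul, add_zero]

end Groth.Agent.Lib.Helper85.HS
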