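import Groth.Agent.Lib.Helper85.HS.Gr
import Groth.Agent.Lib.Helper85.HS.Binomial2

/-!
# Inequalities between Samuel functions (helper85)
-/

set_option autoImplicit false
set_option linter.style.haveILetI false
universe u

namespace Groth.Agent.Lib.Helper85.HS

open Module Pointwise

section general

variable {A : Type u} [CommRing A] (I : Ideal A) {N N' : Type u} [AddCommGroup N] [Module A N]
  [AddCommGroup N'] [Module A N']

/-- a surjection `N → N'` induces a surjection `N/IⁿN → N'/IⁿN'` -/
theorem length_quotient_pow_le_of_surjective (g : N →ₗ[A] N') (hg : Function.Surjective g)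
    (n : ℕ) :
    Module.length A (N' ⧸ I ^ n • (⊤ : Submodule A N')) ≤
      Module.length A (N ⧸ I ^ n • (⊤ : Submodule A N)) := by
  have h : I ^ n • (⊤ : Submodule A N) ≤ Submodule.comap g (I ^ n • (⊤ : Submodule A N')) := by
    rw [← Submodule.map_le_iff_le_comap, Submodule.map_smul'']
    exact Submodule.smul_mono le_rfl le_top
  refine Module.length_le_of_surjective (Submodule.mapQ _ _ g h) ?_
  rw [← LinearMap.range_eq_top, Submodule.range_mapQ, LinearMap.range_eq_top.mpr hg,
    Submodule.map_top, Submodule.range_mkQ]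

/-- quotient by a bigger submodule has smaller length -/
theorem length_quotient_le_of_le (P P' : Submodule A N) (h : P ≤ P') :
    Module.length A (N ⧸ P') ≤ Module.length A (N ⧸ P) := by
  refine Module.length_le_of_surjective (Submodule.factor h) ?_
  rw [← LinearMap.range_eq_top, Submodule.range_mapQ, LinearMap.range_id, Submodule.map_top,
    Submodule.range_mkQ]

/-- `N'/f⁻¹P ↪ N/P` -/
theorem length_quotient_comap_le (f : N' →ₗ[A] N) (P : Submodule A N) :
    Module.length A (N' ⧸ Submodule.comap f P) ≤ Module.length A (N ⧸ P) := by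
  have h : Submodule.comap f P ≤ LinearMap.ker (P.mkQ ∘ₗ f) := by
    rw [LinearMap.ker_comp, Submodule.ker_mkQ]
  refine Module.length_le_of_injective (Submodule.liftQ _ (P.mkQ ∘ₗ f) h) ?_
  rw [← LinearMap.ker_eq_bot]
  apply Submodule.ker_liftQ_eq_bot
  rw [LinearMap.ker_comp, Submodule.ker_mkQ]

/-- Artin–Rees for an injective map -/
theorem exists_comap_pow_le [IsNoetherianRing A] [Module.Finite A N] (f : N' →ₗ[A] N)
    (hf : Function.Injective f) :
    ∃ c : ℕ, ∀ n : ℕ, Submodule.comap f (I ^ (n + c) • (⊤ : Submodule A N)) ≤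
      I ^ n • (⊤ : Submodule A N') := by
  obtain ⟨c, hc⟩ := Ideal.exists_pow_inf_eq_pow_smul I (LinearMap.range f)
  refine ⟨c, fun n m hm => ?_⟩
  rw [Submodule.mem_comap] at hm
  have h1 : f m ∈ I ^ (n + c) • (⊤ : Submodule A N) ⊓ LinearMap.range f := ⟨hm, m, rfl⟩
  rw [hc (n + c) (Nat.le_add_left c n), Nat.add_sub_cancel] at h1
  have h2 : I ^ n • (I ^ c • (⊤ : Submodule A N) ⊓ LinearMap.range f) ≤
      Submodule.map f (I ^ n • (⊤ : Submodule A N')) := by
    rw [Submodule.map_smul'', Submodule.map_top]
    exact Submodule.smul_mono le_rfl inf_le_right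
  obtain ⟨m', hm', hmm'⟩ := h2 h1
  rwa [← hf hmm']

/-- the key exact sequence `0 → N/(P : x) → N/P → (N/xN)/P̄ → 0` on lengths -/
theorem length_quotient_eq_add (x : A) (P : Submodule A N) :
    Module.length A (N ⧸ P) =
      Module.length A (N ⧸ Submodule.comap (LinearMap.lsmul A N x) P) +
        Module.length A (QuotSMulTop x N ⧸
          Submodule.map (x • (⊤ : Submodule A N)).mkQ P) := by
  set μ : N →ₗ[A] N := LinearMap.lsmul A N x with hμ
  set S : Submodule A N := x • (⊤ : Submodule A N) with hS
  set f : N →ₗ[A] N ⧸ P := P.mkQ ∘ₗ μ with hf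
  set g : (N ⧸ P) →ₗ[A] (QuotSMulTop x N ⧸ Submodule.map S.mkQ P) :=
    Submodule.mapQ P (Submodule.map S.mkQ P) S.mkQ (Submodule.le_comap_map _ _) with hg
  have hrange : LinearMap.range μ = S := by
    ext y
    rw [hS, Submodule.mem_smul_pointwise_iff_exists]
    constructor
    · rintro ⟨m, rfl⟩; exact ⟨m, Submodule.mem_top, rfl⟩
    · rintro ⟨m, -, rfl⟩; exact ⟨m, rfl⟩
  have hexact : Function.Exact (LinearMap.range f).subtype g := by
    rw [LinearMap.exact_iff, Submodule.range_subtype, hg, Submodule.ker_mapQ,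
      Submodule.comap_map_eq, Submodule.ker_mkQ, Submodule.map_sup, Submodule.mkQ_map_self,
      bot_sup_eq, hf, LinearMap.range_comp, hrange]
  have hgsurj : Function.Surjective g := by
    rw [← LinearMap.range_eq_top, hg, Submodule.range_mapQ, Submodule.range_mkQ,
      Submodule.map_top, Submodule.range_mkQ]
  rw [Module.length_eq_add_of_exact _ g (LinearMap.range f).injective_subtype hgsurj hexact]
  congr 1
  have hker : LinearMap.ker f = Submodule.comap μ P := by
    rw [hf, LinearMap.ker_comp, Submodule.ker_mkQ]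
  exact ((Submodule.quotEquivOfEq _ _ hker.symm).trans f.quotKerEquivRange).length_eq.symm

theorem map_mkQ_pow_smul_top (x : A) (n : ℕ) :
    Submodule.map (x • (⊤ : Submodule A N)).mkQ (I ^ n • (⊤ : Submodule A N)) =
      I ^ n • (⊤ : Submodule A (QuotSMulTop x N)) := by
  rw [Submodule.map_smul'', Submodule.map_top, Submodule.range_mkQ]

end general

section samuel

variable {A : Type u} [CommRing A] [IsNoetherianRing A] (I : Ideal A) [IsArtinianRing (A ⧸ I)]
  {N N' : Type u} [AddCommGroup N] [Module A N] [AddCommGroup N'] [Module A N']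
  [Module.Finite A N] [Module.Finite A N']

omit [IsNoetherianRing A] [IsArtinianRing (A ⧸ I)] [Module.Finite A N] in
theorem samuel_nonneg (n : ℕ) : 0 ≤ samuel I N n := by
  unfold samuel; positivity

theorem length_eq_samuel (n : ℕ) :
    Module.length A (N ⧸ I ^ n • (⊤ : Submodule A N)) = ((samuel I N n).toNat : ℕ∞) := by
  unfold samuel
  rw [Int.toNat_natCast, ENat.natCast_toNat]
  exact Module.length_ne_top_iff.mpr (isFiniteLength_quotient_pow I N n)

omit [Module.Finite A N'] in
theorem samuel_le_of_length_le {n m : ℕ}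
    (h : Module.length A (N' ⧸ I ^ n • (⊤ : Submodule A N')) ≤
      Module.length A (N ⧸ I ^ m • (⊤ : Submodule A N))) : samuel I N' n ≤ samuel I N m := by
  unfold samuel
  have h2 := Module.length_ne_top_iff.mpr (isFiniteLength_quotient_pow I N m)
  exact_mod_cast ENat.toNat_le_toNat h h2

omit [Module.Finite A N'] in
/-- (D3) -/
theorem samuel_le_of_surjective (g : N →ₗ[A] N') (hg : Function.Surjective g) (n : ℕ) :
    samuel I N' n ≤ samuel I N n :=
  samuel_le_of_length_le I (length_quotient_pow_le_of_surjective I g hg n)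

omit [Module.Finite A N'] in
/-- (D4) -/
theorem samuel_le_of_injective (f : N' →ₗ[A] N) (hf : Function.Injective f) :
    ∃ c : ℕ, ∀ n : ℕ, samuel I N' n ≤ samuel I N (n + c) := by
  obtain ⟨c, hc⟩ := exists_comap_pow_le I f hf
  refine ⟨c, fun n => samuel_le_of_length_le I ?_⟩
  exact (length_quotient_le_of_le _ _ (hc n)).trans (length_quotient_comap_le f _)

theorem samuel_eq_add (x : A) (n : ℕ) :
    samuel I N n =
      ((Module.length A (N ⧸ Submodule.comap (LinearMap.lsmul A N x)
        (I ^ n • (⊤ : Submodule A N)))).toNat : ℤ) + samuel I (QuotSMulTop x N) n := by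
  have h := length_quotient_eq_add x (I ^ n • (⊤ : Submodule A N))
  rw [map_mkQ_pow_smul_top] at h
  have h1 := Module.length_ne_top_iff.mpr (isFiniteLength_quotient_pow I N n)
  have h2 := Module.length_ne_top_iff.mpr (isFiniteLength_quotient_pow I (QuotSMulTop x N) n)
  have h3 : Module.length A (N ⧸ Submodule.comap (LinearMap.lsmul A N x)
      (I ^ n • (⊤ : Submodule A N))) ≠ ⊤ := by
    intro htop
    rw [htop, top_add] at h
    exact h1 h
  have hnat := congrArg ENat.toNat h
  rw [ENat.toNat_add h3 h2] at hnat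
  unfold samuel
  exact_mod_cast hnat

/-- (D5) -/
theorem samuel_quotSMulTop_le (x : A) (hx : IsSMulRegular N x) :
    ∃ c : ℕ, ∀ n : ℕ, c ≤ n →
      samuel I (QuotSMulTop x N) n ≤ samuel I N n - samuel I N (n - c) := by
  obtain ⟨c, hc⟩ := exists_comap_pow_le I (LinearMap.lsmul A N x) hx
  refine ⟨c, fun n hn => ?_⟩
  have h := samuel_eq_add I (N := N) x n
  have h1 : samuel I N (n - c) ≤ ((Module.length A (N ⧸ Submodule.comap (LinearMap.lsmul A N x)
        (I ^ n • (⊤ : Submodule A N)))).toNat : ℤ) := by
    have hle := hc (n - c)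
    rw [Nat.sub_add_cancel hn] at hle
    have h2 := length_quotient_le_of_le _ _ hle
    have h3 : Module.length A (N ⧸ Submodule.comap (LinearMap.lsmul A N x)
        (I ^ n • (⊤ : Submodule A N))) ≠ ⊤ := by
      have h4 := length_quotient_comap_le (LinearMap.lsmul A N x) (I ^ n • (⊤ : Submodule A N))
      have h5 := Module.length_ne_top_iff.mpr (isFiniteLength_quotient_pow I N n)
      exact ne_top_of_le_ne_top h5 h4
    unfold samuel
    exact_mod_cast ENat.toNat_le_toNat h2 h3
  linarith

/-- (D9) -/
theorem samuel_succ_sub_le (x : A) (hx : x ∈ I) (n : ℕ) :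
    samuel I N (n + 1) - samuel I N n ≤ samuel I (QuotSMulTop x N) (n + 1) := by
  have h := samuel_eq_add I (N := N) x (n + 1)
  have hle : I ^ n • (⊤ : Submodule A N) ≤
      Submodule.comap (LinearMap.lsmul A N x) (I ^ (n + 1) • (⊤ : Submodule A N)) := by
    intro m hm
    rw [Submodule.mem_comap]
    exact smul_mem_pow_succ N hx hm
  have h1 : ((Module.length A (N ⧸ Submodule.comap (LinearMap.lsmul A N x)
        (I ^ (n + 1) • (⊤ : Submodule A N)))).toNat : ℤ) ≤ samuel I N n := by
    have h2 := length_quotient_le_of_le _ _ hle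
    have h3 := Module.length_ne_top_iff.mpr (isFiniteLength_quotient_pow I N n)
    unfold samuel
    exact_mod_cast ENat.toNat_le_toNat h2 h3
  linarith

end samuel

end Groth.Agent.Lib.Helper85.HS
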