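import Groth.Agent.Lib.Helper85.HS.DimThm
import Groth.Agent.Lib.Helper85.HS.Poly

/-!
# The Hilbert–Samuel polynomial of a semilocal Noetherian ring (helper85)
-/

set_option autoImplicit false
set_option linter.style.haveILetI false
universe u

namespace Groth.Agent.Lib.Helper85.HS

open Module Pointwise

variable {A : Type u} [CommRing A] [IsNoetherianRing A] [Finite (MaximalSpectrum A)]

instance isArtinianRing_quotient_jacobson : IsArtinianRing (A ⧸ Ring.jacobson A) := by
  rw [isArtinianRing_iff_krullDimLE_zero, Ring.krullDimLE_zero_iff]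
  intro q hq
  have hsurj : Function.Surjective (Ideal.Quotient.mk (Ring.jacobson A)) :=
    Ideal.Quotient.mk_surjective
  haveI : (q.comap (Ideal.Quotient.mk (Ring.jacobson A))).IsPrime := Ideal.comap_isPrime _ q
  have hle : Ring.jacobson A ≤ q.comap (Ideal.Quotient.mk (Ring.jacobson A)) := by
    intro a ha
    rw [Ideal.mem_comap, Ideal.Quotient.eq_zero_iff_mem.mpr ha]
    exact q.zero_mem
  have hmax := isMaximal_of_jacobson_le _ hle
  rw [← Ideal.map_comap_of_surjective _ hsurj q]
  exact (Ideal.map_eq_top_or_isMaximal_of_surjective _ hsurj hmax).resolve_left (by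
    rw [Ideal.map_comap_of_surjective _ hsurj q]; exact hq.ne_top)

variable (A) (M : Type u) [AddCommGroup M] [Module A M] [Module.Finite A M] [Nontrivial M]

/-- the dimension of a nonzero finite module over a semilocal Noetherian ring is a natural
number -/
theorem exists_supportDim_eq_nat : ∃ d : ℕ, supportDim A M = (d : WithBot ℕ∞) := by
  obtain ⟨D, hD⟩ := exists_evBinom_samuel (Ring.jacobson A) M
  have hle := supportDim_le_of_evBinom (I := Ring.jacobson A) le_rfl D M hD
  have hne := supportDim_ne_bot_of_nontrivial A M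
  obtain ⟨e, he⟩ := WithBot.ne_bot_iff_exists.mp hne
  rw [← he] at hle ⊢
  have he' : e ≤ (D : ℕ∞) := by exact_mod_cast hle
  have hetop : e ≠ ⊤ := ne_top_of_le_ne_top (ENat.natCast_ne_top D) he'
  obtain ⟨d, rfl⟩ := ENat.ne_top_iff_exists.mp hetop
  exact ⟨d, rfl⟩

/-- the Hilbert–Samuel polynomial and its degree -/
theorem exists_hilbertSamuel_polynomial :
    ∃ P : Polynomial ℚ,
      (∃ N : ℕ, ∀ n : ℕ, N ≤ n → (samuel (Ring.jacobson A) M n : ℚ) = P.eval (n : ℚ)) ∧
      (P.natDegree : WithBot ℕ∞) = supportDim A M := by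
  obtain ⟨d, hd⟩ := exists_supportDim_eq_nat A M
  obtain ⟨x, hx, hfl⟩ := exists_fin_isFiniteLength_quotient d M hd.le
  have h1 : EvBinom (d + 1) (samuel (Ring.jacobson A) M) :=
    evBinom_of_isFiniteLength_quotient (Ring.jacobson A) d M x hx hfl
  have h2 : d = 0 ∨ ¬ EvBinom d (samuel (Ring.jacobson A) M) := by
    rcases Nat.eq_zero_or_pos d with h0 | h0
    · exact Or.inl h0
    · right
      intro hev
      obtain ⟨e, rfl⟩ : ∃ e, d = e + 1 := ⟨d - 1, by omega⟩
      have h3 := supportDim_le_of_evBinom (I := Ring.jacobson A) le_rfl e M hev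
      rw [hd] at h3
      have h4 : e + 1 ≤ e := by exact_mod_cast h3
      omega
  obtain ⟨P, hP, N, hN⟩ := h1.exists_polynomial h2
  exact ⟨P, ⟨N, hN⟩, by rw [hP, hd]⟩

end Groth.Agent.Lib.Helper85.HS
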